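import Cfsg.Agent.Lib.FGS.Covering

/-!
Groups whose class sizes have few divisibility relations: the index of the centre.
-/

set_option autoImplicit false

namespace CfsgLib.Recognition.PSL2Sizes

open Subgroup

variable {G : Type*} [Group G]

/-- The class size. -/
noncomputable def sz (x : G) : ℕ := (centralizer ({x} : Set G)).index

/-- Order of the centraliser modulo the centre. -/
noncomputable def mz (x : G) : ℕ := (center G).relIndex (centralizer ({x} : Set G))

theorem center_le_centralizer (x : G) : center G ≤ centralizer ({x} : Set G) := fun c hc =>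
  mem_centralizer_singleton_iff.2 (mem_center_iff.1 hc x).symm

theorem mz_mul_sz (x : G) : mz x * sz x = (center G).index :=
  relIndex_mul_index (center_le_centralizer x)

theorem self_mem (x : G) : x ∈ centralizer ({x} : Set G) := mem_centralizer_singleton_iff.2 rfl

theorem sz_eq_one_iff {x : G} : sz x = 1 ↔ x ∈ center G := by
  rw [sz, index_eq_one, eq_top_iff, mem_center_iff]
  exact ⟨fun h g => mem_centralizer_singleton_iff.1 (h (mem_top g)),
    fun h g _ => mem_centralizer_singleton_iff.2 (h g)⟩

theorem sz_dvd_of_le {x y : G} (h : centralizer ({x} : Set G) ≤ centralizer ({y} : Set G)) :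
    sz y ∣ sz x := index_dvd_of_le h

theorem eq_of_le_of_sz_eq [Finite G] {x y : G}
    (h : centralizer ({x} : Set G) ≤ centralizer ({y} : Set G)) (e : sz x = sz y) :
    centralizer ({x} : Set G) = centralizer ({y} : Set G) := by
  refine le_antisymm h fun g hg => ?_
  have h1 := relIndex_mul_index h
  rw [show (centralizer ({x} : Set G)).index = sz x from rfl, e] at h1
  have h2 : (centralizer ({x} : Set G)).relIndex (centralizer ({y} : Set G)) = 1 :=
    (Nat.mul_eq_right (index_ne_zero_of_finite)).1 h1
  exact relIndex_eq_one.1 h2 hg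

theorem sz_conj (g x : G) : sz (g * x * g⁻¹) = sz x := by
  unfold sz
  rw [show centralizer ({g * x * g⁻¹} : Set G) =
    (centralizer ({x} : Set G)).map (MulAut.conj g).toMonoidHom from ?_]
  · exact index_map_equiv _ (MulAut.conj g)
  ext w
  rw [mem_centralizer_singleton_iff, mem_map_equiv, mem_centralizer_singleton_iff,
    MulAut.conj_symm_apply]
  constructor <;> intro h
  · calc g⁻¹ * w * g * x = g⁻¹ * (w * (g * x * g⁻¹)) * g := by group
      _ = g⁻¹ * (g * x * g⁻¹ * w) * g := by rw [h]
      _ = _ := by group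
  · calc w * (g * x * g⁻¹) = g * (g⁻¹ * w * g * x) * g⁻¹ := by group
      _ = g * (x * (g⁻¹ * w * g)) * g⁻¹ := by rw [h]
      _ = _ := by group

/-- A proper inclusion of centralisers of noncentral elements multiplies the class size by `δ`. -/
def Ratio (G : Type*) [Group G] (δ : ℕ) : Prop :=
  ∀ x y : G, x ∉ center G → y ∉ center G →
    centralizer ({x} : Set G) ≤ centralizer ({y} : Set G) → sz x = sz y ∨ sz x = δ * sz y

/-- A class size which occurs in no proper inclusion of centralisers. -/
def Rigid (G : Type*) [Group G] (n : ℕ) : Prop :=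
  ∀ x y : G, x ∉ center G → y ∉ center G → (sz x = n ∨ sz y = n) →
    centralizer ({x} : Set G) ≤ centralizer ({y} : Set G) →
      centralizer ({x} : Set G) = centralizer ({y} : Set G)

variable [Finite G]

/-- Every noncentral element has a noncentral power of prime power order. -/
theorem exists_component {x : G} (hx : x ∉ center G) :
    ∃ (r : ℕ) (u : G), r.Prime ∧ (∃ k, orderOf u = r ^ k) ∧ u ∉ center G ∧
      centralizer ({x} : Set G) ≤ centralizer ({u} : Set G) := by
  by_contra hne
  push Not at hne
  refine hx (CfsgLib.FGS.mem_of_prime_powers (center G) x fun a ⟨r, k, hr, hk⟩ => ?_)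
  by_contra hc
  refine hne r (x ^ a) hr ⟨k, hk⟩ hc fun g hg => ?_
  rw [mem_centralizer_singleton_iff] at hg ⊢
  exact (Commute.pow_right (hg : Commute g x) a).eq

/-- The centraliser of a product of commuting elements of coprime orders. -/
theorem centralizer_mul_le {u v : G} (huv : Commute u v) (hco : (orderOf u).Coprime (orderOf v)) :
    centralizer ({u * v} : Set G) ≤ centralizer ({u} : Set G) ∧
      centralizer ({u * v} : Set G) ≤ centralizer ({v} : Set G) ∧ u ∈ zpowers (u * v) := by
  have hu : u ∈ zpowers (u * v) := by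
    obtain ⟨m, hm⟩ := exists_pow_eq_self_of_coprime (x := u) (n := orderOf v) hco.symm
    have h3 : (u * v) ^ (orderOf v * m) = u := by
      rw [huv.mul_pow, pow_mul v, pow_orderOf_eq_one, one_pow, mul_one, pow_mul, hm]
    have h4 := pow_mem (mem_zpowers (u * v)) (orderOf v * m)
    rwa [h3] at h4
  have key : centralizer ({u * v} : Set G) ≤ centralizer ({u} : Set G) := fun g hg => by
    rw [mem_centralizer_singleton_iff] at hg ⊢
    obtain ⟨i, hi⟩ := hu
    have := (Commute.zpow_right (hg : Commute g (u * v)) i).eq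
    simp only at hi
    rwa [hi] at this
  refine ⟨key, fun g hg => ?_, hu⟩
  have h1 := mem_centralizer_singleton_iff.1 (key hg)
  rw [mem_centralizer_singleton_iff] at hg ⊢
  have := (Commute.mul_right (Commute.inv_right (h1 : Commute g u)) (hg : Commute g (u * v))).eq
  simpa using this

theorem mul_not_mem_center {u v : G} (huv : Commute u v) (hco : (orderOf u).Coprime (orderOf v))
    (hu : u ∉ center G) : u * v ∉ center G := fun h =>
  hu ((zpowers_le.2 h) (centralizer_mul_le huv hco).2.2)

/-- Elements of coprime orders in a rigid centraliser are central in it. -/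
theorem le_centralizer_of_rigid {b w : G} (hb : b ∉ center G) (hrig : Rigid G (sz b))
    (hw : w ∈ centralizer ({b} : Set G)) (hco : (orderOf b).Coprime (orderOf w)) :
    centralizer ({b} : Set G) ≤ centralizer ({w} : Set G) := by
  have hc : Commute b w := (mem_centralizer_singleton_iff.1 hw).symm
  obtain ⟨h1, h2, -⟩ := centralizer_mul_le hc hco
  rw [← hrig _ _ (mul_not_mem_center hc hco hb) hb (Or.inr rfl) h1]
  exact h2

/-- A rigid centraliser which is not of prime power order modulo the centre is commutative. -/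
theorem comm_of_rigid {y : G} (hy : y ∉ center G) (hrig : Rigid G (sz y))
    (hm : ∀ s k : ℕ, s.Prime → mz y ≠ s ^ k) :
    ∀ a ∈ centralizer ({y} : Set G), ∀ b ∈ centralizer ({y} : Set G), a * b = b * a := by
  obtain ⟨s, u, hs, ⟨k, hk⟩, hu, hyu⟩ := exists_component hy
  have := Fact.mk hs
  have heq := hrig y u hy hu (Or.inl rfl) hyu
  have hszu : sz u = sz y := by rw [sz, sz, heq]
  have hrigu : Rigid G (sz u) := hszu ▸ hrig
  rw [heq]
  -- some noncentral element has order prime to `s`
  obtain ⟨r, w, hw, hwc, hwr⟩ : ∃ (r : ℕ) (w : G), w ∈ centralizer ({u} : Set G) ∧ w ∉ center G ∧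
      (r.Prime ∧ r ≠ s ∧ ∃ j, orderOf w = r ^ j) := by
    by_contra hne
    simp only [not_exists, not_and] at hne
    have hp : IsPGroup s (↥(centralizer ({u} : Set G)) ⧸ (center G).subgroupOf (centralizer ({u} : Set G))) := by
      intro q
      obtain ⟨⟨g, hg⟩, rfl⟩ := QuotientGroup.mk_surjective q
      refine ⟨(orderOf g).factorization s, ?_⟩
      rw [← QuotientGroup.mk_pow, QuotientGroup.eq_one_iff, mem_subgroupOf, coe_pow]
      refine CfsgLib.FGS.mem_of_prime_powers (center G) _ fun a ⟨r, j, hr, hj⟩ => ?_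
      by_cases hrs : r = s
      · subst hrs
        rcases Nat.eq_zero_or_pos j with rfl | hj0
        · rw [pow_zero, orderOf_eq_one_iff] at hj; rw [hj]; exact one_mem _
        exfalso
        have h1 : r ∣ orderOf ((g ^ r ^ (orderOf g).factorization r) ^ a) := by
          rw [hj]; exact dvd_pow_self r hj0.ne'
        have h2 := h1.trans (orderOf_pow_dvd _)
        rw [orderOf_pow_of_dvd (pow_pos hr.pos _).ne' (Nat.ordProj_dvd _ _)] at h2
        exact Nat.not_dvd_ordCompl hr (orderOf_pos g).ne' h2
      · by_contra hc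
        exact hne r _ ((centralizer _).pow_mem ((centralizer _).pow_mem hg _) _) hc hr hrs j hj
    obtain ⟨j, hj⟩ := IsPGroup.iff_card.1 hp
    refine hm s j hs ?_
    rw [← hj, mz, heq]
    rfl
  obtain ⟨hr, hrs, j, hj⟩ := hwr
  have hcor : ∀ {a b : ℕ}, r ≠ s → Nat.Coprime (s ^ a) (r ^ b) := fun {a b} h =>
    ((Nat.coprime_primes hs hr).2 h.symm).pow a b
  have hco : (orderOf u).Coprime (orderOf w) := by rw [hk, hj]; exact hcor hrs
  have hle := le_centralizer_of_rigid hu hrigu hw hco
  have heqw := hrigu u w hu hwc (Or.inl rfl) hle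
  have hszw : sz w = sz u := by rw [sz, sz, heqw]
  have hcentral : ∀ x ∈ centralizer ({u} : Set G),
      centralizer ({u} : Set G) ≤ centralizer ({x} : Set G) := by
    intro x hx b hb
    rw [mem_centralizer_singleton_iff]
    have h := CfsgLib.FGS.mem_of_prime_powers (centralizer (centralizer ({u} : Set G) : Set G)) x
      fun a ⟨t, i, ht, hi⟩ => by
        have hxa := (centralizer ({u} : Set G)).pow_mem hx a
        by_cases hts : t = s
        · refine mem_centralizer_iff.2 fun c hc => ?_
          have hco' : (orderOf w).Coprime (orderOf (x ^ a)) := by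
            rw [hi, hj, hts]; exact (hcor hrs).symm
          have := le_centralizer_of_rigid hwc (hszw ▸ hrigu) (heqw ▸ hxa) hco' (heqw ▸ hc)
          exact mem_centralizer_singleton_iff.1 this
        · refine mem_centralizer_iff.2 fun c hc => ?_
          have hco' : (orderOf u).Coprime (orderOf (x ^ a)) := by
            rw [hi, hk]; exact ((Nat.coprime_primes hs ht).2 (Ne.symm hts)).pow _ _
          exact mem_centralizer_singleton_iff.1 (le_centralizer_of_rigid hu hrigu hxa hco' hc)
    exact mem_centralizer_iff.1 h b hb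
  exact fun a ha b hb => mem_centralizer_singleton_iff.1 (hcentral b hb ha)

/-- An element of prime power order is conjugate into a subgroup of index prime to its order. -/
theorem exists_conj_mem {r k : ℕ} [Fact r.Prime] {u : G} (hu : orderOf u = r ^ k) (H : Subgroup G)
    (hH : ¬ r ∣ H.index) : ∃ g : G, g⁻¹ * u * g ∈ H := by
  classical
  have hP : IsPGroup r (zpowers u) := IsPGroup.of_card (n := k) (by rw [Nat.card_zpowers, hu])
  obtain ⟨z, hz⟩ := hP.nonempty_fixed_point_of_prime_not_dvd_card (G ⧸ H) (by rwa [← index_eq_card])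
  obtain ⟨g, rfl⟩ := QuotientGroup.mk_surjective z
  refine ⟨g, ?_⟩
  have h1 : u • (g : G ⧸ H) = (g : G ⧸ H) := hz ⟨u, mem_zpowers u⟩
  rw [MulAction.Quotient.smul_coe, smul_eq_mul, eq_comm, QuotientGroup.eq, ← mul_assoc] at h1
  exact h1

/-- A prime of a rigid class size does not divide the order of the centraliser modulo the centre. -/
theorem not_dvd_mz {r δ : ℕ} [hr : Fact r.Prime] (hratio : Ratio G δ) (hδ : ¬ r ^ 2 ∣ δ)
    {x : G} (hx : x ∉ center G) (hxr : ¬ r ∣ sz x) {y : G} (hy : y ∉ center G) (hyr : r ∣ sz y)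
    (h2 : ¬ r ∣ δ ∨ r ^ 2 ∣ sz y) (hrig : Rigid G (sz y))
    (hm : r ∣ mz y → ∀ s k : ℕ, s.Prime → mz y ≠ s ^ k) : ¬ r ∣ mz y := by
  intro hd
  have hab := comm_of_rigid hy hrig (hm hd)
  -- a noncentral `r`-element in the centraliser of `y`
  obtain ⟨⟨q, hq⟩⟩ : Nonempty {q : ↥(centralizer ({y} : Set G)) ⧸ (center G).subgroupOf
      (centralizer ({y} : Set G)) // orderOf q = r} := by
    haveI : ((center G).subgroupOf (centralizer ({y} : Set G))).Normal := inferInstance
    obtain ⟨q, hq⟩ := exists_prime_orderOf_dvd_card' (G := ↥(centralizer ({y} : Set G)) ⧸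
      (center G).subgroupOf (centralizer ({y} : Set G))) r hd
    exact ⟨⟨q, hq⟩⟩
  obtain ⟨⟨v, hv⟩, rfl⟩ := QuotientGroup.mk_surjective q
  obtain ⟨u, huC, ⟨k, hk⟩, huc⟩ : ∃ u ∈ centralizer ({y} : Set G),
      (∃ k, orderOf u = r ^ k) ∧ u ∉ center G := by
    refine ⟨v ^ (orderOf v / r ^ (orderOf v).factorization r), (centralizer _).pow_mem hv _,
      ⟨(orderOf v).factorization r, ?_⟩, fun hc => ?_⟩
    · rw [orderOf_pow_of_dvd (Nat.ordCompl_pos r (orderOf_pos v).ne').ne' (Nat.ordCompl_dvd _ _)]
      exact Nat.div_div_self (Nat.ordProj_dvd _ _) (orderOf_pos v).ne'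
    · have h1 : orderOf ((QuotientGroup.mk ⟨v, hv⟩ : ↥(centralizer ({y} : Set G)) ⧸
          (center G).subgroupOf (centralizer ({y} : Set G)))) ∣
          orderOf v / r ^ (orderOf v).factorization r := by
        refine orderOf_dvd_of_pow_eq_one ?_
        rw [← QuotientGroup.mk_pow, QuotientGroup.eq_one_iff, mem_subgroupOf, coe_pow]
        exact hc
      rw [hq] at h1
      exact Nat.not_dvd_ordCompl hr.out (orderOf_pos v).ne' h1
  have hyu : centralizer ({y} : Set G) = centralizer ({u} : Set G) :=
    hrig y u hy huc (Or.inl rfl) fun g hg => mem_centralizer_singleton_iff.2 (hab g hg u huC)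
  have hszu : sz u = sz y := by rw [sz, sz, hyu]
  -- an element of class size prime to `r` centralised by `u`
  obtain ⟨s, c, hs, ⟨j, hj⟩, hc, hxc⟩ := exists_component hx
  have hcr : ¬ r ∣ sz c := fun h => hxr (h.trans (sz_dvd_of_le hxc))
  obtain ⟨g, hg⟩ := exists_conj_mem hk (centralizer ({c} : Set G)) hcr
  set c' := g * c * g⁻¹ with hc'def
  have hc'u : Commute c' u := by
    have h1 : g⁻¹ * u * g * c = c * (g⁻¹ * u * g) := mem_centralizer_singleton_iff.1 hg
    show g * c * g⁻¹ * u = u * (g * c * g⁻¹)
    calc g * c * g⁻¹ * u = g * (c * (g⁻¹ * u * g)) * g⁻¹ := by group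
      _ = g * (g⁻¹ * u * g * c) * g⁻¹ := by rw [h1]
      _ = _ := by group
  have hc' : c' ∉ center G := fun h => hc (by
    have h1 := (inferInstance : (center G).Normal).conj_mem c' h g⁻¹
    rwa [hc'def, show g⁻¹ * (g * c * g⁻¹) * g⁻¹⁻¹ = c by group] at h1)
  have hszc : sz c' = sz c := sz_conj g c
  by_cases hsr : s = r
  · have hc'y : c' ∈ centralizer ({y} : Set G) := by
      rw [hyu]; exact mem_centralizer_singleton_iff.2 hc'u.eq
    have h1 := hrig y c' hy hc' (Or.inl rfl) fun a ha =>
      mem_centralizer_singleton_iff.2 (hab a ha c' hc'y)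
    apply hcr
    rw [← hszc, show sz c' = sz y by rw [sz, sz, h1]]
    exact hyr
  · have hoc : orderOf c' = s ^ j := by
      rw [hc'def, show g * c * g⁻¹ = MulAut.conj g c from rfl, MulEquiv.orderOf_eq, hj]
    have hco : (orderOf c').Coprime (orderOf u) := by
      rw [hoc, hk]; exact ((Nat.coprime_primes hs hr.out).2 hsr).pow _ _
    obtain ⟨h1, h3, -⟩ := centralizer_mul_le hc'u hco
    have hdiv := sz_dvd_of_le h3
    rw [hszu] at hdiv
    rcases hratio _ _ (mul_not_mem_center hc'u hco hc') hc' h1 with e | e <;> rw [e, hszc] at hdiv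
    · exact hcr (hyr.trans hdiv)
    · rcases h2 with h | h
      · rcases hr.out.dvd_mul.1 (hyr.trans hdiv) with h' | h'
        · exact h h'
        · exact hcr h'
      · exact hδ (((hr.out.coprime_iff_not_dvd.2 hcr).pow_left 2).dvd_of_dvd_mul_right (h.trans hdiv))

/-- A prime dividing no class size does not divide the index of the centre. -/
theorem not_dvd_index_center {r : ℕ} [Fact r.Prime] (h : ∀ x : G, ¬ r ∣ sz x) :
    ¬ r ∣ (center G).index := by
  obtain ⟨R⟩ : Nonempty (Sylow r G) := inferInstance
  have htop : centralizer ((R : Subgroup G) : Set G) = ⊤ := by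
    refine CfsgLib.FGS.eq_top_of_forall_exists_conj fun x => ?_
    obtain ⟨S⟩ : Nonempty (Sylow r ↥(centralizer ({x} : Set G))) := inferInstance
    set S' : Subgroup G := (S : Subgroup ↥(centralizer ({x} : Set G))).map
      (centralizer ({x} : Set G)).subtype with hS'
    have hidx : ¬ r ∣ S'.index := by
      rw [hS', index_map, ker_subtype, sup_bot_eq, range_subtype]
      exact (Fact.out : r.Prime).not_dvd_mul S.not_dvd_index (h x)
    obtain ⟨g, hg⟩ := MulAction.exists_smul_eq G ((S.2.map (centralizer ({x} : Set G)).subtype).toSylow hidx) R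
    refine ⟨g, mem_centralizer_iff.2 fun b hb => ?_⟩
    rw [← hg, Sylow.coe_subgroup_smul] at hb
    obtain ⟨b', hb', rfl⟩ := hb
    have h1 : b' * x = x * b' := by
      obtain ⟨⟨b'', hb''⟩, -, rfl⟩ := hb'
      exact mem_centralizer_singleton_iff.1 hb''
    show g * b' * g⁻¹ * (g * x * g⁻¹) = g * x * g⁻¹ * (g * b' * g⁻¹)
    calc _ = g * (b' * x) * g⁻¹ := by group
      _ = g * (x * b') * g⁻¹ := by rw [h1]
      _ = _ := by group
  have hle : (R : Subgroup G) ≤ center G := fun b hb => mem_center_iff.2 fun a =>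
    (mem_centralizer_iff.1 (htop ▸ mem_top a) b hb).symm
  exact fun hd => R.not_dvd_index (hd.trans (index_dvd_of_le hle))

end CfsgLib.Recognition.PSL2Sizes
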