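import Cfsg.Agent.Lib.Recognition.PSL2Sizes.Central

/-!
The index of the centre and the centralisers in the central quotient.
-/

set_option autoImplicit false

namespace CfsgLib.Recognition.PSL2Sizes

open Subgroup

variable {G : Type*} [Group G]

/-- The preimage of the centraliser of an image in the central quotient, mapped into the centre. -/
noncomputable def commHom (x : G) :
    ↥((centralizer ({(x : G ⧸ center G)} : Set (G ⧸ center G))).comap (QuotientGroup.mk' (center G))) →*
      ↥(center G) :=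
  MonoidHom.mk' (fun h => ⟨(h : G) * x * (h : G)⁻¹ * x⁻¹, by
    have h1 : ((h : G) : G ⧸ center G) * x = x * ((h : G) : G ⧸ center G) :=
      mem_centralizer_singleton_iff.1 h.2
    rw [← QuotientGroup.eq_one_iff, QuotientGroup.mk_mul, QuotientGroup.mk_mul, QuotientGroup.mk_mul,
      h1, QuotientGroup.mk_inv, QuotientGroup.mk_inv]
    group⟩) (fun a b => by
    refine Subtype.ext ?_
    show ((a : G) * b) * x * ((a : G) * b)⁻¹ * x⁻¹ =
      ((a : G) * x * (a : G)⁻¹ * x⁻¹) * ((b : G) * x * (b : G)⁻¹ * x⁻¹)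
    have hz : (b : G) * x * (b : G)⁻¹ * x⁻¹ ∈ center G := by
      have h1 : ((b : G) : G ⧸ center G) * x = x * ((b : G) : G ⧸ center G) :=
        mem_centralizer_singleton_iff.1 b.2
      rw [← QuotientGroup.eq_one_iff, QuotientGroup.mk_mul, QuotientGroup.mk_mul,
        QuotientGroup.mk_mul, h1, QuotientGroup.mk_inv, QuotientGroup.mk_inv]
      group
    generalize hzd : (b : G) * x * (b : G)⁻¹ * x⁻¹ = z at hz
    have hb : (b : G) * x * (b : G)⁻¹ = z * x := by rw [← hzd]; group
    calc ((a : G) * b) * x * ((a : G) * b)⁻¹ * x⁻¹ = a * ((b : G) * x * (b : G)⁻¹) * (a : G)⁻¹ * x⁻¹ := by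
          group
      _ = (a * z) * x * (a : G)⁻¹ * x⁻¹ := by rw [hb]; group
      _ = (z * a) * x * (a : G)⁻¹ * x⁻¹ := by rw [mem_center_iff.1 hz (a : G)]
      _ = z * ((a : G) * x * (a : G)⁻¹ * x⁻¹) := by group
      _ = _ := (mem_center_iff.1 hz _).symm)

/-- The index of a centraliser in the preimage of the centraliser of the image. -/
noncomputable def kz (x : G) : ℕ :=
  (centralizer ({x} : Set G)).relIndex
    ((centralizer ({(x : G ⧸ center G)} : Set (G ⧸ center G))).comap (QuotientGroup.mk' (center G)))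

theorem centralizer_le_comap (x : G) : centralizer ({x} : Set G) ≤
    (centralizer ({(x : G ⧸ center G)} : Set (G ⧸ center G))).comap (QuotientGroup.mk' (center G)) :=
  fun g hg => by
    rw [mem_comap, mem_centralizer_singleton_iff]
    show (g : G ⧸ center G) * x = x * g
    rw [← QuotientGroup.mk_mul, mem_centralizer_singleton_iff.1 hg, QuotientGroup.mk_mul]

/-- The order of the centraliser of an image in the central quotient. -/
theorem card_cen_eq (x : G) :
    Nat.card (centralizer ({(x : G ⧸ center G)} : Set (G ⧸ center G))) = mz x * kz x := by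
  set f := QuotientGroup.mk' (center G)
  set H := (centralizer ({(x : G ⧸ center G)} : Set (G ⧸ center G))).comap f with hH
  have h0 := relIndex_comap (⊥ : Subgroup (G ⧸ center G)) f H
  rw [MonoidHom.comap_bot, QuotientGroup.ker_mk', relIndex_bot_left, hH,
    map_comap_eq_self_of_surjective (QuotientGroup.mk'_surjective _), ← hH] at h0
  rw [mz, kz, relIndex_mul_relIndex _ _ _ (center_le_centralizer x) (centralizer_le_comap x), h0]

theorem kz_dvd (x : G) : kz x ∣ sz x :=
  Dvd.intro _ (relIndex_mul_index (centralizer_le_comap x))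

theorem pow_mz_mem (x : G) : x ^ mz x ∈ center G := by
  have h1 := ((center G).subgroupOf (centralizer ({x} : Set G))).pow_index_mem ⟨x, self_mem x⟩
  rwa [mem_subgroupOf, coe_pow] at h1

/-- The primes of `kz x` divide every exponent taking `x` into the centre. -/
theorem prime_dvd_of_dvd_kz [Finite G] {x : G} {m l : ℕ} (hm : x ^ m ∈ center G) (hl : l.Prime)
    (hd : l ∣ kz x) : l ∣ m := by
  set H := (centralizer ({(x : G ⧸ center G)} : Set (G ⧸ center G))).comap
    (QuotientGroup.mk' (center G)) with hH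
  have hker : (commHom x).ker = (centralizer ({x} : Set G)).subgroupOf H := by
    ext h
    rw [MonoidHom.mem_ker, mem_subgroupOf, mem_centralizer_singleton_iff]
    constructor
    · intro e
      have e' : (h : G) * x * (h : G)⁻¹ * x⁻¹ = 1 := congrArg Subtype.val e
      calc (h : G) * x = ((h : G) * x * (h : G)⁻¹ * x⁻¹) * (x * h) := by group
        _ = _ := by rw [e', one_mul]
    · intro e
      refine Subtype.ext ?_
      show (h : G) * x * (h : G)⁻¹ * x⁻¹ = 1
      rw [e]; group
  rw [kz, relIndex, ← hker, index_ker] at hd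
  have := Fact.mk hl
  obtain ⟨⟨y, h, rfl⟩, hy⟩ := exists_prime_orderOf_dvd_card' l hd
  rw [← Subgroup.orderOf_coe] at hy
  rw [← hy]
  refine orderOf_dvd_of_pow_eq_one (Subtype.ext ?_)
  rw [coe_pow, coe_one]
  have hz := ((commHom x) h).2
  set z : G := ((commHom x h : center G) : G)
  have hzx : (h : G) * x * (h : G)⁻¹ = z * x := by
    show _ = (h : G) * x * (h : G)⁻¹ * x⁻¹ * x
    group
  have e2 : (z * x) ^ m = x ^ m := by
    rw [← hzx, conj_pow, mem_center_iff.1 hm (h : G), mul_assoc, mul_inv_cancel, mul_one]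
  rw [(show Commute z x from (mem_center_iff.1 hz x).symm).mul_pow] at e2
  exact mul_right_cancel (e2.trans (one_mul _).symm)

/-- The centraliser of an image in the central quotient. -/
theorem card_centralizer_mk [Finite G] (x : G) :
    ∃ k : ℕ, Nat.card (centralizer ({(x : G ⧸ center G)} : Set (G ⧸ center G))) = mz x * k ∧
      k ∣ sz x ∧ ∀ l : ℕ, l.Prime → l ∣ k → l ∣ mz x :=
  ⟨kz x, card_cen_eq x, kz_dvd x, fun _ hl hd => prime_dvd_of_dvd_kz (pow_mz_mem x) hl hd⟩

/-- A lift whose centraliser is the whole preimage commutes with the preimage. -/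
theorem commute_of_kz_eq_one {x b : G} (hk : kz x = 1)
    (h : (b : G ⧸ center G) * x = x * b) : b * x = x * b :=
  mem_centralizer_singleton_iff.1 (relIndex_eq_one.1 hk (mem_comap.2 (mem_centralizer_singleton_iff.2 h)))

theorem rigid_of_dvd {n : ℕ} [Finite G]
    (h : ∀ x : G, x ∉ center G → (n ∣ sz x → sz x = n) ∧ (sz x ∣ n → sz x = n)) : Rigid G n := by
  intro x y hx hy hn hle
  refine eq_of_le_of_sz_eq hle ?_
  have hd := sz_dvd_of_le hle
  rcases hn with e | e
  · rw [e]; exact ((h y hy).2 (e ▸ hd)).symm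
  · rw [e]; exact (h x hx).1 (e ▸ hd)

/-- The index of the centre is the least common multiple of the class sizes. -/
theorem index_center_eq [Finite G] {L δ : ℕ} (hL : L ≠ 0) (hδ : ∀ p : ℕ, p.Prime → ¬ p ^ 2 ∣ δ)
    (hratio : Ratio G δ) (hdvd : ∀ x : G, sz x ∣ L) (hLN : L ∣ (center G).index)
    (hp : ∀ p : ℕ, p.Prime → p ∣ L → ∃ (x y : G) (e : ℕ), x ∉ center G ∧ y ∉ center G ∧ ¬ p ∣ sz x ∧
      p ∣ sz y ∧ Rigid G (sz y) ∧ (¬ p ∣ δ ∨ p ^ 2 ∣ sz y) ∧ 1 < e ∧ ¬ p ∣ e ∧ sz y * e ∣ L) :
    (center G).index = L := by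
  refine Nat.dvd_antisymm ((Nat.dvd_iff_prime_pow_dvd_dvd L _).2 fun p k hpp hk => ?_) hLN
  have := Fact.mk hpp
  rcases Nat.eq_zero_or_pos k with rfl | hk0
  · simp
  by_cases hpL : p ∣ L
  · obtain ⟨x, y, e, hx, hy, hxp, hyp, hrig, h2, he1, hpe, heL⟩ := hp p hpp hpL
    have hem : e ∣ mz y := by
      refine Nat.dvd_of_mul_dvd_mul_left (Nat.pos_of_ne_zero index_ne_zero_of_finite : 0 < sz y) ?_
      rw [mul_comm _ (mz y), mz_mul_sz]
      exact heL.trans hLN
    have hm : p ∣ mz y → ∀ s k : ℕ, s.Prime → mz y ≠ s ^ k := by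
      intro hd s i hs e1
      have hps : p = s := (Nat.prime_dvd_prime_iff_eq hpp hs).1 (hpp.dvd_of_dvd_pow (e1 ▸ hd))
      obtain ⟨t, ht, hte⟩ := Nat.exists_prime_and_dvd he1.ne'
      have hts : t = s := (Nat.prime_dvd_prime_iff_eq ht hs).1 (ht.dvd_of_dvd_pow (e1 ▸ hte.trans hem))
      exact hpe (hps ▸ hts ▸ hte)
    have hnd := not_dvd_mz hratio (hδ p hpp) hx hxp hy hyp h2 hrig hm
    refine dvd_trans ?_ (hdvd y)
    refine ((hpp.coprime_iff_not_dvd.2 hnd).pow_left k).dvd_of_dvd_mul_left ?_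
    rwa [mz_mul_sz]
  · exfalso
    exact not_dvd_index_center (fun x h => hpL (h.trans (hdvd x)))
      ((dvd_pow_self p hk0.ne').trans hk)

end CfsgLib.Recognition.PSL2Sizes
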