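import Cfsg.Agent.Lib.Recognition.PSL2Sizes.OddCount
import Cfsg.Agent.Lib.PGroup.CAI.Split
import Cfsg.Agent.Lib.Classical.Dickson.PSLMap

/-!
Groups with the centraliser orders of `PSL(2, q)`, `q` even, are isomorphic to it.
-/

set_option autoImplicit false

namespace CfsgLib.Recognition.PSL2Sizes

open CfsgLib.InvolChar.BSW

/-- The centraliser orders of `PSL(2, q)`, `q` even. -/
structure EvenCent (X : Type*) [Group X] (q : ℕ) : Prop where
  pow : ∃ n : ℕ, q = 2 ^ n
  four_le : 4 ≤ q
  card : Nat.card X = q * ((q - 1) * (q + 1))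
  cent : ∀ x : X, x ≠ 1 → Nat.card (cen x) = q ∨ Nat.card (cen x) = q - 1 ∨ Nat.card (cen x) = q + 1

variable {X : Type*} [Group X] [Fintype X] {q : ℕ}

theorem EvenCent.cen_of_even (h : EvenCent X q) {x : X} (hx : x ≠ 1) (h2 : 2 ∣ Nat.card (cen x)) :
    Nat.card (cen x) = q := by
  obtain ⟨n, hn⟩ := h.pow
  have h4 := h.four_le
  have hq2 : 2 ∣ q := hn ▸ dvd_pow_self 2 (by rintro rfl; rw [pow_zero] at hn; omega)
  rcases h.cent x hx with e | e | e <;> omega

theorem EvenCent.card_lt (h : EvenCent X q) {x : X} (hx : x ≠ 1) : Nat.card (cen x) < Nat.card X := by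
  have h4 := h.four_le
  have h1 : 1 < q - 1 := by omega
  have h2 : q + 1 < q * ((q - 1) * (q + 1)) := by
    have : 1 * (q + 1) < (q * (q - 1)) * (q + 1) := by
      refine Nat.mul_lt_mul_of_pos_right ?_ (by omega)
      calc 1 < q - 1 := h1
        _ ≤ q * (q - 1) := Nat.le_mul_of_pos_left _ (by omega)
    rw [one_mul, mul_assoc] at this
    exact this
  rw [h.card]
  rcases h.cent x hx with e | e | e <;> omega

open scoped Classical in
/-- The elements with centralisers of order `q` form one class. -/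
theorem EvenCent.one_class (h : EvenCent X q) :
    (Finset.univ.filter fun x : X => Nat.card (cen x) = q).card = (q - 1) * (q + 1) ∧
      ∀ x y : X, Nat.card (cen x) = q → Nat.card (cen y) = q → IsConj x y := by
  classical
  have h4 := h.four_le
  obtain ⟨k₁, h₁⟩ := exists_count (X := X) q
  obtain ⟨k₂, h₂⟩ := exists_count (X := X) (q - 1)
  obtain ⟨k₃, h₃⟩ := exists_count (X := X) (q + 1)
  rw [h.card] at h₁ h₂ h₃
  have e₁ : (Finset.univ.filter fun x : X => Nat.card (cen x) = q).card = k₁ * ((q - 1) * (q + 1)) :=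
    Nat.eq_of_mul_eq_mul_right (show 0 < q by omega) (h₁.trans (by ring))
  have e₂ : (Finset.univ.filter fun x : X => Nat.card (cen x) = q - 1).card = k₂ * (q * (q + 1)) :=
    Nat.eq_of_mul_eq_mul_right (show 0 < q - 1 by omega) (h₂.trans (by ring))
  have e₃ : (Finset.univ.filter fun x : X => Nat.card (cen x) = q + 1).card = k₃ * (q * (q - 1)) :=
    Nat.eq_of_mul_eq_mul_right (show 0 < q + 1 by omega) (h₃.trans (by ring))
  have hpt : ∀ x : X, (1 : ℕ) = (if x = 1 then 1 else 0) + (if Nat.card (cen x) = q then 1 else 0) +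
      (if Nat.card (cen x) = q - 1 then 1 else 0) + (if Nat.card (cen x) = q + 1 then 1 else 0) := by
    intro x
    rcases eq_or_ne x 1 with rfl | hx
    · have h1 : Nat.card (cen (1 : X)) = Nat.card X := by
        have : cen (1 : X) = ⊤ := eq_top_iff.2 fun g _ => mem_cen.2 (by simp)
        rw [this, Subgroup.card_top]
      have hb : q + 1 < q * ((q - 1) * (q + 1)) := by
        have : 1 * (q + 1) < (q * (q - 1)) * (q + 1) := by
          refine Nat.mul_lt_mul_of_pos_right ?_ (by omega)
          calc 1 < q - 1 := by omega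
            _ ≤ q * (q - 1) := Nat.le_mul_of_pos_left _ (by omega)
        rw [one_mul, mul_assoc] at this
        exact this
      rw [h.card] at h1
      simp only [h1, if_pos]
      rw [if_neg (by omega), if_neg (by omega), if_neg (by omega)]
    · rw [if_neg hx]
      rcases h.cent x hx with e | e | e
      · rw [if_pos e, if_neg (by omega), if_neg (by omega)]
      · rw [if_neg (by omega), if_pos e, if_neg (by omega)]
      · rw [if_neg (by omega), if_neg (by omega), if_pos e]
  have hsum := Finset.sum_congr rfl (fun x (_ : x ∈ (Finset.univ : Finset X)) => hpt x)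
  rw [Finset.sum_const, Finset.card_univ, ← Nat.card_eq_fintype_card, h.card, smul_eq_mul,
    mul_one] at hsum
  simp only [Finset.sum_add_distrib, ← Finset.card_filter] at hsum
  rw [show (Finset.univ.filter fun i : X => i = 1) = {1} by ext; simp, Finset.card_singleton,
    e₁, e₂, e₃] at hsum
  have hk : k₁ = 1 := by
    obtain ⟨m, rfl⟩ : ∃ m, q = m + 1 := ⟨q - 1, by omega⟩
    simp only [Nat.add_sub_cancel] at hsum
    have hlt : k₁ < m + 1 := by
      by_contra hh
      push Not at hh
      have h5 : (m + 1) * (m * (m + 1 + 1)) ≤ k₁ * (m * (m + 1 + 1)) := Nat.mul_le_mul_right _ hh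
      linarith [Nat.zero_le (k₂ * ((m + 1) * (m + 1 + 1))), Nat.zero_le (k₃ * ((m + 1) * m))]
    have h5 : ((m + 1 : ℕ) : ℤ) ∣ (k₁ : ℤ) - 1 := by
      refine ⟨((m : ℤ) + 1) * k₁ - (m : ℤ) * (m + 2) + k₂ * (m + 2) + k₃ * m, ?_⟩
      have hz := congrArg (Nat.cast : ℕ → ℤ) hsum
      push_cast at hz ⊢
      linear_combination hz
    have h6 : (k₁ : ℤ) - 1 = 0 := Int.eq_zero_of_abs_lt_dvd h5 (by rw [abs_lt]; omega)
    omega
  rw [hk, one_mul] at e₁
  refine ⟨e₁, fun x y hx hy => ?_⟩
  have hcl := CfsgLib.Char.card_isConj_mul_card_centralizer x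
  rw [show Nat.card (Subgroup.centralizer ({x} : Set X)) = q from hx, h.card,
    mul_comm q] at hcl
  have hsub : (Finset.univ.filter fun z : X => IsConj x z) ⊆
      Finset.univ.filter fun z : X => Nat.card (cen z) = q := by
    intro z hz
    obtain ⟨g, hg⟩ := isConj_iff.1 (Finset.mem_filter.1 hz).2
    refine Finset.mem_filter.2 ⟨Finset.mem_univ _, hx ▸ ?_⟩
    rw [← hg]
    refine Nat.card_congr ((MulAut.conj g⁻¹).toEquiv.subtypeEquiv fun a => ?_)
    simp only [mem_cen, MulEquiv.toEquiv_eq_coe, EquivLike.coe_coe, MulAut.conj_apply, inv_inv]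
    constructor <;> intro h'
    · calc g⁻¹ * a * g * x = g⁻¹ * (a * (g * x * g⁻¹)) * g := by group
        _ = g⁻¹ * (g * x * g⁻¹ * a) * g := by rw [h']
        _ = _ := by group
    · calc a * (g * x * g⁻¹) = g * (g⁻¹ * a * g * x) * g⁻¹ := by group
        _ = g * (x * (g⁻¹ * a * g)) * g⁻¹ := by rw [h']
        _ = _ := by group
  have heq := Finset.eq_of_subset_of_card_le hsub (le_of_eq (by
    rw [e₁, ← Fintype.card_subtype, ← Nat.card_eq_fintype_card]
    exact (Nat.eq_of_mul_eq_mul_right (show 0 < q by omega) hcl).symm))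
  have hy' : y ∈ Finset.univ.filter fun z : X => IsConj x z := by
    rw [heq]; exact Finset.mem_filter.2 ⟨Finset.mem_univ _, hy⟩
  exact (Finset.mem_filter.1 hy').2

/-- Every nontrivial element of two-power order is an involution. -/
theorem EvenCent.sq_eq_one (h : EvenCent X q) {x : X} {k : ℕ} (hx : orderOf x = 2 ^ k) : x * x = 1 := by
  rcases eq_or_ne x 1 with rfl | hx1
  · simp
  have hk : k ≠ 0 := by rintro rfl; rw [pow_zero, orderOf_eq_one_iff] at hx; exact hx1 hx
  have hxq := h.cen_of_even hx1 ((hx ▸ dvd_pow_self 2 hk : 2 ∣ orderOf x).trans (by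
    have h1 : orderOf (⟨x, mem_cen.2 rfl⟩ : cen x) ∣ Nat.card (cen x) := orderOf_dvd_natCard _
    rwa [Subgroup.orderOf_mk] at h1))
  obtain ⟨t, ht⟩ := exists_prime_orderOf_dvd_card' (G := X) 2 (by
    obtain ⟨n, hn⟩ := h.pow
    have hn0 : n ≠ 0 := by rintro rfl; have := h.four_le; rw [pow_zero] at hn; omega
    rw [h.card]; exact dvd_mul_of_dvd_left (hn ▸ dvd_pow_self 2 hn0) _)
  have ht1 : t ≠ 1 := fun e => by rw [e, orderOf_one] at ht; omega
  have htq := h.cen_of_even ht1 (by
    have h1 : orderOf (⟨t, mem_cen.2 rfl⟩ : cen t) ∣ Nat.card (cen t) := orderOf_dvd_natCard _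
    rwa [Subgroup.orderOf_mk, ht] at h1)
  obtain ⟨g, hg⟩ := isConj_iff.1 (h.one_class.2 t x htq hxq)
  have ht2 : t * t = 1 := by rw [← pow_two, ← ht, pow_orderOf_eq_one]
  calc x * x = g * (t * t) * g⁻¹ := by rw [← hg]; group
    _ = 1 := by rw [ht2]; group

/-- Recognition of `PSL(2, q)`, `q` even, by the orders of the centralisers. -/
theorem nonempty_psl_even {F : Type*} [Field F] [Fintype F] (h : EvenCent X q)
    (hF : Fintype.card F = q) : Nonempty (X ≃* Matrix.ProjectiveSpecialLinearGroup (Fin 2) F) := by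
  classical
  haveI : Fact (Nat.Prime 2) := ⟨Nat.prime_two⟩
  have h4 := h.four_le
  obtain ⟨n, hn⟩ := h.pow
  have hexp : ∀ (P : Subgroup X), IsPGroup 2 P → ∀ a ∈ P, a * a = 1 := by
    intro P hP a ha
    obtain ⟨k, hk⟩ := IsPGroup.iff_orderOf.1 hP ⟨a, ha⟩
    rw [Subgroup.orderOf_mk] at hk
    exact h.sq_eq_one hk
  have hab : ∀ (P : Subgroup X), IsPGroup 2 P → ∀ a ∈ P, ∀ b ∈ P, a * b = b * a := by
    intro P hP a ha b hb
    calc a * b = a * (a * b * (a * b)) * b := by rw [hexp P hP _ (P.mul_mem ha hb), mul_one]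
      _ = (a * a) * (b * a) * (b * b) := by group
      _ = _ := by rw [hexp P hP a ha, hexp P hP b hb]; group
  have hcenP : ∀ t : X, orderOf t = 2 → IsPGroup 2 (cen t) := fun t ht =>
    IsPGroup.of_card (n := n) (by
      rw [← hn]
      refine h.cen_of_even (fun e => by rw [e, orderOf_one] at ht; omega) ?_
      have h1 : orderOf (⟨t, mem_cen.2 rfl⟩ : cen t) ∣ Nat.card (cen t) := orderOf_dvd_natCard _
      rwa [Subgroup.orderOf_mk, ht] at h1)
  have hC : CfsgLib.PGroup.CAI.CentAbelian X := fun t ht => ⟨⟨fun a b =>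
    Subtype.ext (hab _ (hcenP t ht) a.1 a.2 b.1 b.2)⟩⟩
  obtain ⟨t, ht⟩ := exists_prime_orderOf_dvd_card' (G := X) 2 (by
    have hn0 : n ≠ 0 := by rintro rfl; rw [pow_zero] at hn; omega
    rw [h.card]; exact dvd_mul_of_dvd_left (hn ▸ dvd_pow_self 2 hn0) _)
  have ht1 : t ≠ 1 := fun e => by rw [e, orderOf_one] at ht; omega
  have htq : Nat.card (cen t) = q := h.cen_of_even ht1 (by
    have h1 : orderOf (⟨t, mem_cen.2 rfl⟩ : cen t) ∣ Nat.card (cen t) := orderOf_dvd_natCard _
    rwa [Subgroup.orderOf_mk, ht] at h1)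
  have hS : ∀ S : Sylow 2 X, Nat.card (S : Subgroup X) = q := by
    intro S
    obtain ⟨S₀, hS₀⟩ := (hcenP t ht).exists_le_sylow
    have e0 : Nat.card (S : Subgroup X) = Nat.card (S₀ : Subgroup X) := by
      rw [S.card_eq_multiplicity, S₀.card_eq_multiplicity]
    rw [e0, ← htq]
    congr 1
    refine congrArg (fun H : Subgroup X => (H : Type _)) (le_antisymm (fun a ha => ?_) hS₀)
    exact mem_cen.2 (hab _ S₀.2 a ha t (hS₀ (mem_cen.2 rfl)))
  have hgood : CfsgLib.PGroup.CAI.TwoGood X := by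
    refine ⟨fun S hc => ?_, fun S hnorm => ?_⟩
    · obtain ⟨g, hg⟩ := hc.exists_generator
      have h1 : orderOf g = q := by rw [← hS S]; exact orderOf_eq_card_of_forall_mem_zpowers hg
      have h2 : orderOf g ∣ 2 := orderOf_dvd_of_pow_eq_one (Subtype.ext (by
        rw [pow_two]; exact hexp _ S.2 g g.2))
      have := Nat.le_of_dvd two_pos h2
      omega
    · have hall : ∀ x : X, Nat.card (cen x) = q → x ∈ (S : Subgroup X) := by
        intro x hx
        have h1 : orderOf (⟨x, mem_cen.2 rfl⟩ : cen x) ∣ Nat.card (cen x) := orderOf_dvd_natCard _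
        rw [Subgroup.orderOf_mk, hx, hn] at h1
        obtain ⟨i, -, hi⟩ := (Nat.dvd_prime_pow Nat.prime_two).1 h1
        haveI := hnorm
        exact (S.3 ((IsPGroup.of_card (n := i) (G := Subgroup.zpowers x)
            (by rw [Nat.card_zpowers, hi])).to_sup_of_normal_right S.2) le_sup_right).le
            (Subgroup.mem_sup_left (Subgroup.mem_zpowers x))
      have h2 : (q - 1) * (q + 1) ≤ q := by
        rw [← h.one_class.1, ← Nat.card_eq_finsetCard]
        refine le_of_le_of_eq ?_ (hS S)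
        exact Nat.card_le_card_of_injective
          (fun x => (⟨x.1, hall _ (Finset.mem_filter.1 x.2).2⟩ : (S : Subgroup X)))
          fun a b e => Subtype.ext (congrArg Subtype.val e :)
      have h3 : 2 * (q + 1) ≤ (q - 1) * (q + 1) := Nat.mul_le_mul_right _ (by omega)
      omega
  obtain ⟨L, _, _, π, hchar, hL4, hsurj, hker, -⟩ :=
    CfsgLib.PGroup.CAI.splitLinear (Nat.card X) X rfl hgood hC
  haveI := hchar
  have hinj : Function.Injective π := by
    rw [← MonoidHom.ker_eq_bot_iff, hker, Subgroup.eq_bot_iff_forall]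
    intro z hz
    by_contra hz1
    have h1 : cen z = ⊤ := eq_top_iff.2 fun g _ => mem_cen.2 (Subgroup.mem_center_iff.1 hz g)
    have := h.card_lt hz1
    rw [h1, Subgroup.card_top] at this
    exact lt_irrefl _ this
  let e := MulEquiv.ofBijective π ⟨hinj, hsurj⟩
  have hcard := CfsgLib.PGroup.CAI.card_psl_even (F := L)
  rw [← Nat.card_congr e.toEquiv, h.card] at hcard
  have hqk : Fintype.card L = q := by
    set k := Fintype.card L
    rcases lt_trichotomy k q with hlt | heq | hgt
    · have := Nat.mul_lt_mul_of_lt_of_le hlt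
        (Nat.mul_le_mul (Nat.sub_le_sub_right hlt.le 1) (Nat.add_le_add_right hlt.le 1))
        (Nat.mul_pos (by omega) (by omega))
      omega
    · exact heq
    · have := Nat.mul_lt_mul_of_lt_of_le hgt
        (Nat.mul_le_mul (Nat.sub_le_sub_right hgt.le 1) (Nat.add_le_add_right hgt.le 1))
        (Nat.mul_pos (by omega) (by omega))
      omega
  obtain ⟨σ⟩ : Nonempty (L ≃+* F) := ⟨FiniteField.ringEquivOfCardEq (hqk.trans hF.symm)⟩
  exact ⟨e.trans (CfsgLib.Classical.Dickson.pslCongr σ)⟩

end CfsgLib.Recognition.PSL2Sizes
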