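import Cfsg.Agent.Lib.Recognition.PSL2Sizes.Split

/-!
Groups with the class sizes of `PSL(2, q)` are its direct products with abelian groups.
-/

set_option autoImplicit false

namespace CfsgLib.Recognition.PSL2Sizes

open Subgroup CfsgLib.InvolChar.BSW

variable {G : Type*} [Group G] [Finite G] {F : Type*} [Field F] [Fintype F]

local notation "P2" => Matrix.ProjectiveSpecialLinearGroup (Fin 2) F

omit [Finite G] [Fintype F] in
/-- Transport of commutativity to the central quotient. -/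
theorem quot_comm {r : ℕ} (e : (G ⧸ center G) ≃* P2) {R : Subgroup G} (hR : IsPGroup r R)
    (hP : ∀ H : Subgroup P2, IsPGroup r H → ∀ a ∈ H, ∀ b ∈ H, a * b = b * a) :
    ∀ a ∈ R, ∀ b ∈ R, (a : G ⧸ center G) * b = b * a := by
  intro a ha b hb
  refine e.injective ?_
  rw [map_mul, map_mul]
  exact hP _ (hR.map (e.toMonoidHom.comp (QuotientGroup.mk' (center G))))
    _ (mem_map_of_mem _ ha) _ (mem_map_of_mem _ hb)

/-- The derived subgroup is a complement of the centre. -/
theorem exists_split (h4 : 4 ≤ Fintype.card F) (e : (G ⧸ center G) ≃* P2)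
    (hbot : commutator G ⊓ center G = ⊥) :
    ∃ N A : Subgroup G, N.Normal ∧ A ≤ center G ∧ N ⊓ A = ⊥ ∧ N ⊔ A = ⊤ ∧ Nonempty (N ≃* P2) := by
  obtain ⟨hsimp, hnc, -⟩ := CfsgLib.Classical.Dickson.noncomm_of_four_le (F := F) rfl h4
  haveI := hsimp
  have hP : commutator P2 = ⊤ := CfsgLib.SmallGroups.commutator_eq_top_of_simple hnc
  set φ : G →* P2 := e.toMonoidHom.comp (QuotientGroup.mk' (center G)) with hφ
  have hφs : Function.Surjective φ := e.surjective.comp (QuotientGroup.mk'_surjective _)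
  have hker : φ.ker = center G := by
    ext g
    rw [MonoidHom.mem_ker, hφ, MonoidHom.comp_apply]
    show e (g : G ⧸ center G) = 1 ↔ _
    rw [EmbeddingLike.map_eq_one_iff, QuotientGroup.eq_one_iff]
  have hmap : (commutator G).map φ = ⊤ := by
    rw [commutator_def, map_commutator, map_top_of_surjective _ hφs, ← commutator_def, hP]
  refine ⟨commutator G, center G, inferInstance, le_rfl, hbot, ?_, ⟨?_⟩⟩
  · rw [← hker, ← comap_map_eq, hmap, comap_top]
  · refine MulEquiv.ofBijective (φ.comp (commutator G).subtype) ⟨?_, ?_⟩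
    · refine (injective_iff_map_eq_one _).2 fun x hx => Subtype.ext ?_
      have h1 : (x : G) ∈ commutator G ⊓ center G := ⟨x.2, hker ▸ MonoidHom.mem_ker.2 hx⟩
      rw [hbot] at h1
      exact mem_bot.1 h1
    · intro y
      have hy : y ∈ (commutator G).map φ := hmap ▸ mem_top y
      obtain ⟨x, hx, rfl⟩ := hy
      exact ⟨⟨x, hx⟩, rfl⟩

theorem split_odd {q d w : ℕ} (h : OddSizes G q d w) (hF : Fintype.card F = q) :
    ∃ N A : Subgroup G, N.Normal ∧ A ≤ center G ∧ N ⊓ A = ⊥ ∧ N ⊔ A = ⊤ ∧ Nonempty (N ≃* P2) := by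
  haveI := Fintype.ofFinite (G ⧸ center G)
  obtain ⟨e⟩ := nonempty_psl_odd h.oddCent hF
  have hq7 := h.par.odd_qw.2.2.2.1
  obtain ⟨p, hc⟩ := CharP.exists F
  haveI : Fact p.Prime := ⟨CharP.char_is_prime F p⟩
  refine exists_split (by omega) e (commutator_inf_center fun r hr => ?_)
  haveI := Fact.mk hr
  by_cases h2 : r = 2
  · subst h2; exact h.two_case
  obtain ⟨R⟩ : Nonempty (Sylow r G) := inferInstance
  refine ⟨R, bot_of_comm (comm_of_quot (fun u hu huc => ?_) (quot_comm e R.2 fun H hH => ?_))⟩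
  · obtain ⟨j, hj⟩ := IsPGroup.iff_orderOf.1 R.2 ⟨u, hu⟩
    rw [Subgroup.orderOf_mk] at hj
    exact h.kz_eq_one_of_odd huc hr h2 hj
  · by_cases hp : r = p
    · subst hp; exact psl_pgroup_char_comm r hH
    · exact psl_pgroup_odd_comm p r h2 hp hH

theorem split_even {q : ℕ} (h : EvenSizes G q) (hF : Fintype.card F = q) :
    ∃ N A : Subgroup G, N.Normal ∧ A ≤ center G ∧ N ⊓ A = ⊥ ∧ N ⊔ A = ⊤ ∧ Nonempty (N ≃* P2) := by
  haveI := Fintype.ofFinite (G ⧸ center G)
  obtain ⟨e⟩ := nonempty_psl_even h.evenCent hF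
  obtain ⟨p, hc⟩ := CharP.exists F
  obtain ⟨n, hpp, hn⟩ := FiniteField.card F p
  haveI := Fact.mk hpp
  obtain rfl : p = 2 := by
    obtain ⟨m, hm⟩ := h.pow
    have h1 : p ∣ 2 ^ m := hm ▸ hF ▸ hn ▸ dvd_pow_self p n.ne_zero
    exact (Nat.prime_dvd_prime_iff_eq hpp Nat.prime_two).1 (hpp.dvd_of_dvd_pow h1)
  refine exists_split (hF ▸ h.four_le) e (commutator_inf_center fun r hr => ?_)
  haveI := Fact.mk hr
  obtain ⟨R⟩ : Nonempty (Sylow r G) := inferInstance
  refine ⟨R, bot_of_comm (comm_of_quot (fun u _ huc => ?_) (quot_comm e R.2 fun H hH => ?_))⟩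
  · by_contra hk
    obtain ⟨l, hl, hlk⟩ := Nat.exists_prime_and_dvd hk
    exact hl.ne_one (Nat.eq_one_of_dvd_coprimes (h.card_cen_mk huc).2
      (prime_dvd_of_dvd_kz (pow_mz_mem u) hl hlk) (hlk.trans (kz_dvd u)))
  · by_cases hp : r = 2
    · subst hp; exact psl_pgroup_char_comm 2 hH
    · exact psl_pgroup_odd_comm 2 r hp hp hH

end CfsgLib.Recognition.PSL2Sizes
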