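import Cfsg.Agent.Lib.InvolChar.BSW.Count

/-!
Groups with the centraliser orders of `PSL(2, q)`, `q` odd: counting the products of two involutions.
-/

set_option autoImplicit false

namespace CfsgLib.Recognition.PSL2Sizes

open CfsgLib.InvolChar.BSW

/-- The parameters `q`, `d = (q ∓ 1)/2`, `w = (q ± 1)/2`. -/
structure Par (q d w : ℕ) : Prop where
  even_d : Even d
  four_le : 4 ≤ d
  cases : (q = 2 * d + 1 ∧ w = d + 1) ∨ (q + 1 = 2 * d ∧ w + 1 = d)

theorem Par.sq_sub_one {q d w : ℕ} (h : Par q d w) : 4 * d * w + 1 = q * q := by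
  rcases h.cases with ⟨rfl, rfl⟩ | ⟨h1, h2⟩
  · ring
  · obtain ⟨v, rfl⟩ : ∃ v, d = v + 1 := ⟨w, h2.symm⟩
    obtain rfl : w = v := by omega
    obtain rfl : q = 2 * w + 1 := by omega
    ring

theorem Par.odd_qw {q d w : ℕ} (h : Par q d w) : Odd q ∧ Odd w ∧ 3 ≤ w ∧ 7 ≤ q ∧ q ≠ w ∧ q ≠ d ∧
    q ≠ 2 * d ∧ w ≠ d := by
  have h4 := h.four_le
  obtain ⟨m, hm⟩ := h.even_d
  rw [Nat.odd_iff, Nat.odd_iff]
  rcases h.cases with h1 | h1 <;> omega

theorem Par.coprime {q d w : ℕ} (h : Par q d w) :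
    Nat.Coprime q (2 * d * w) ∧ Nat.Coprime (2 * d) w := by
  obtain ⟨-, ⟨m, hm⟩, -⟩ := h.odd_qw
  refine ⟨Nat.coprime_of_dvd fun l hl h1 h2 => ?_, Nat.coprime_of_dvd fun l hl h1 h2 => ?_⟩
  · have e := h.sq_sub_one
    have h3 : l ∣ 4 * d * w := h2.trans ⟨2, by ring⟩
    have h4 : l ∣ q * q := h1.mul_right q
    exact hl.ne_one (Nat.dvd_one.1 ((Nat.dvd_add_right h3).1 (e ▸ h4)))
  · have h3 : l ∣ 2 * w := h2.mul_left 2
    refine hl.ne_one ?_
    rcases h.cases with ⟨-, e⟩ | ⟨-, e⟩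
    · have h5 : l ∣ 2 := by
        have : 2 * w = 2 * d + 2 := by omega
        exact (Nat.dvd_add_right h1).1 (this ▸ h3)
      obtain rfl := (Nat.prime_dvd_prime_iff_eq hl Nat.prime_two).1 h5
      omega
    · have h5 : l ∣ 2 := by
        have : 2 * d = 2 * w + 2 := by omega
        exact (Nat.dvd_add_right h3).1 (this ▸ h1)
      obtain rfl := (Nat.prime_dvd_prime_iff_eq hl Nat.prime_two).1 h5
      omega

/-- The class equation fixes the numbers of classes. -/
theorem Par.solve {q d w : ℕ} (h : Par q d w) {e a D : ℕ}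
    (he : 2 * d * q * w = 1 + e * (2 * d * w) + a * (2 * d * q) + D * (q * w)) :
    e = 2 ∧ D + 1 = d ∧ (q = 2 * d + 1 → 2 * a = d) ∧ (q + 1 = 2 * d → 2 * a + 2 = d) := by
  obtain ⟨-, -, hw3, hq7, -⟩ := h.odd_qw
  have hd4 := h.four_le
  have hsq := h.sq_sub_one
  have he2 : e = 2 := by
    have h1 : q ∣ e * (2 * d * w) + 1 := by
      have h2 : q ∣ a * (2 * d * q) + D * (q * w) := ⟨a * (2 * d) + D * w, by ring⟩
      have h3 : q ∣ 2 * d * q * w := ⟨2 * d * w, by ring⟩
      rw [he, show 1 + e * (2 * d * w) + a * (2 * d * q) + D * (q * w) =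
        (a * (2 * d * q) + D * (q * w)) + (e * (2 * d * w) + 1) by ring] at h3
      exact (Nat.dvd_add_right h2).1 h3
    have hlt : e < q := by
      by_contra hh
      push Not at hh
      have : q * (2 * d * w) ≤ e * (2 * d * w) := Nat.mul_le_mul_right _ hh
      have h0 : q * (2 * d * w) = 2 * d * q * w := by ring
      linarith [Nat.zero_le (a * (2 * d * q)), Nat.zero_le (D * (q * w))]
    have h4 : (q : ℤ) ∣ (e : ℤ) - 2 := by
      have h5 : (q : ℤ) ∣ 2 * ((e : ℤ) * (2 * d * w) + 1) := by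
        exact_mod_cast (h1.mul_left 2)
      have h6 : (4 : ℤ) * d * w + 1 = q * q := by exact_mod_cast hsq
      have h7 : (q : ℤ) ∣ (e : ℤ) * (q * q) := ⟨e * q, by ring⟩
      have h8 := dvd_sub h7 h5
      rw [show (e : ℤ) * (q * q) - 2 * ((e : ℤ) * (2 * d * w) + 1) = (e : ℤ) - 2 by
        rw [← h6]; ring] at h8
      exact h8
    have h5 : ((e : ℤ) - 2) = 0 := Int.eq_zero_of_abs_lt_dvd h4 (by rw [abs_lt]; omega)
    omega
  subst he2
  have key : 2 * d * w = q + a * (2 * d) + D * w := by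
    refine Nat.eq_of_mul_eq_mul_left (show 0 < q by omega) ?_
    linarith [he]
  refine ⟨rfl, ?_⟩
  rcases h.cases with ⟨e1, e2⟩ | ⟨e1, e2⟩
  · rw [e1, e2] at key
    have hd : d ∣ D + 1 := by
      have h2 : d ∣ 2 * d * (d + 1) := ⟨2 * (d + 1), by ring⟩
      rw [key, show 2 * d + 1 + a * (2 * d) + D * (d + 1) = d * (2 + 2 * a + D) + (D + 1) by ring] at h2
      exact (Nat.dvd_add_right (dvd_mul_right d _)).1 h2
    obtain ⟨l, hl⟩ := hd
    have hl1 : l = 1 := by
      have hl0 : l ≠ 0 := fun e => by subst e; simp at hl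
      by_contra hne
      have h2 : d * 2 ≤ d * l := Nat.mul_le_mul_left d (by omega)
      have h3 : (2 * d - 1) * (d + 1) ≤ D * (d + 1) := Nat.mul_le_mul_right _ (by omega)
      obtain ⟨v, rfl⟩ : ∃ v, d = v + 1 := ⟨d - 1, by omega⟩
      rw [show 2 * (v + 1) - 1 = 2 * v + 1 by omega] at h3
      nlinarith
    subst hl1
    rw [mul_one] at hl
    refine ⟨hl, ?_, fun _ => by omega⟩
    intro _
    have h3 : d * (2 * a) = d * d := by
      subst hl
      nlinarith
    have := Nat.eq_of_mul_eq_mul_left (show 0 < d by omega) h3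
    omega
  · obtain ⟨v, rfl⟩ : ∃ v, d = v + 1 := ⟨w, e2.symm⟩
    obtain rfl : w = v := by omega
    obtain rfl : q = 2 * w + 1 := by omega
    have hd : (w + 1) ∣ D + 1 := by
      have h2 : (w + 1) ∣ D * (w + 1) + (2 * w + 2) := ⟨D + 2, by ring⟩
      have h3 : (w + 1) ∣ 2 * (w + 1) * w := ⟨2 * w, by ring⟩
      have h4 : 2 * (w + 1) * w + (D + 1) = (D * (w + 1) + (2 * w + 2)) + a * (2 * (w + 1)) := by
        nlinarith [key]
      have h5 : (w + 1) ∣ 2 * (w + 1) * w + (D + 1) := h4 ▸ dvd_add h2 ⟨a * 2, by ring⟩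
      exact (Nat.dvd_add_right h3).1 h5
    obtain ⟨l, hl⟩ := hd
    have hl1 : l = 1 := by
      have hl0 : l ≠ 0 := fun e => by subst e; simp at hl
      by_contra hne
      have h2 : (w + 1) * 2 ≤ (w + 1) * l := Nat.mul_le_mul_left _ (by omega)
      have h3 : (2 * w + 1) * w ≤ D * w := Nat.mul_le_mul_right _ (by omega)
      nlinarith
    subst hl1
    rw [mul_one] at hl
    refine ⟨hl, fun _ => by omega, fun _ => ?_⟩
    obtain rfl : D = w := by omega
    have h3 : (2 * (D + 1)) * a + (2 * D + 1) = (D + 2) * D := by nlinarith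
    have h4 : (D + 1) * (2 * a + 1) = (D + 1) * D := by nlinarith
    have := Nat.eq_of_mul_eq_mul_left (show 0 < D + 1 by omega) h4
    omega

/-- The centraliser orders of `PSL(2, q)`, `q` odd. -/
structure OddCent (X : Type*) [Group X] (q d w : ℕ) : Prop where
  par : Par q d w
  card : Nat.card X = 2 * d * q * w
  pow : ∃ p n : ℕ, p.Prime ∧ q = p ^ n
  cent : ∀ x : X, x ≠ 1 → Nat.card (cen x) = q ∨ Nat.card (cen x) = 2 * d ∨
    Nat.card (cen x) = d ∨ Nat.card (cen x) = w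

variable {X : Type*} [Group X] [Fintype X]

open scoped Classical in
/-- A conjugation invariant set of elements with centralisers of order `c` has size a multiple of the
class size. -/
theorem exists_count (c : ℕ) :
    ∃ k : ℕ, (Finset.univ.filter fun x : X => Nat.card (cen x) = c).card * c = k * Nat.card X := by
  set S := Finset.univ.filter fun x : X => Nat.card (cen x) = c
  refine ⟨(S.image ConjClasses.mk).card, ?_⟩
  rw [Finset.card_eq_sum_card_image ConjClasses.mk S, Finset.sum_mul,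
    Finset.sum_eq_card_nsmul (b := Nat.card X), smul_eq_mul]
  intro C hC
  obtain ⟨x, hx, rfl⟩ := Finset.mem_image.1 hC
  have hxc : Nat.card (cen x) = c := (Finset.mem_filter.1 hx).2
  rw [← CfsgLib.Char.card_isConj_mul_card_centralizer x, ← hxc]
  congr 1
  rw [← Nat.card_eq_finsetCard]
  refine Nat.card_congr (Equiv.subtypeEquivRight fun y => ?_)
  rw [Finset.mem_filter, Finset.mem_filter, ConjClasses.mk_eq_mk_iff_isConj, isConj_comm]
  refine ⟨fun h => h.2, fun h => ⟨⟨Finset.mem_univ _, ?_⟩, h⟩⟩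
  obtain ⟨g, rfl⟩ := isConj_iff.1 h
  rw [← hxc]
  refine Nat.card_congr ((MulAut.conj g⁻¹).toEquiv.subtypeEquiv fun a => ?_)
  simp only [mem_cen, MulEquiv.toEquiv_eq_coe, EquivLike.coe_coe, MulAut.conj_apply, inv_inv]
  constructor <;> intro h'
  · calc g⁻¹ * a * g * x = g⁻¹ * (a * (g * x * g⁻¹)) * g := by group
      _ = g⁻¹ * (g * x * g⁻¹ * a) * g := by rw [h']
      _ = _ := by group
  · calc a * (g * x * g⁻¹) = g * (g⁻¹ * a * g * x) * g⁻¹ := by group
      _ = g * (x * (g⁻¹ * a * g)) * g⁻¹ := by rw [h']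
      _ = _ := by group

/-- The involutions whose product with `x` is an involution. -/
noncomputable def nInv (x : X) : ℕ := Nat.card {s : X // IsInv s ∧ IsInv (s * x)}

theorem inverts_of_inv {s x : X} (hs : IsInv s) (hsx : IsInv (s * x)) : s * x * s⁻¹ = x⁻¹ := by
  have h := hsx.2
  rw [hs.inv_eq]
  exact eq_inv_of_mul_eq_one_left (by rw [← h]; group)

theorem nInv_le (x : X) : nInv x ≤ Nat.card (cen x) := by
  classical
  rcases isEmpty_or_nonempty {s : X // IsInv s ∧ IsInv (s * x)} with he | ⟨⟨s₀, hs₀⟩⟩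
  · simp [nInv]
  refine Nat.card_le_card_of_injective (fun s => ⟨s₀ * s.1, ?_⟩) fun a b e =>
    Subtype.ext (mul_left_cancel (congrArg Subtype.val e))
  rw [mem_cen]
  have h1 := inverts_of_inv hs₀.1 hs₀.2
  have h2 := inverts_of_inv s.2.1 s.2.2
  calc s₀ * s.1 * x = s₀ * (s.1 * x * s.1⁻¹) * s.1 := by group
    _ = (s₀ * x * s₀⁻¹)⁻¹ * s₀ * s.1 := by rw [h2]; group
    _ = _ := by rw [h1, inv_inv, mul_assoc]

theorem sum_nInv : ∑ x : X, nInv x = mm X * mm X := by
  rw [mm, ← Nat.card_prod]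
  unfold nInv
  rw [← Nat.card_sigma]
  exact Nat.card_congr
    { toFun := fun p => (⟨p.2.1, p.2.2.1⟩, ⟨p.2.1 * p.1, p.2.2.2⟩)
      invFun := fun p => ⟨p.1.1⁻¹ * p.2.1, p.1.1, p.1.2, by rw [mul_inv_cancel_left]; exact p.2.2⟩
      left_inv := fun ⟨x, s, hs⟩ => Sigma.subtype_ext (by simp) rfl
      right_inv := fun p => by simp }

end CfsgLib.Recognition.PSL2Sizes
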