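import Cfsg.Agent.Lib.Recognition.PSL2Sizes.OddStructure
import Cfsg.Agent.Lib.InvolChar.BSW.CaseTwo
import Cfsg.Agent.Lib.PGroup.SelfCentSimple.Recognise
import Cfsg.Agent.Lib.PGroup.SelfCentSimple.PSL
import Cfsg.Agent.Lib.Classical.Dickson.PSLMap

/-!
Groups with the centraliser orders of `PSL(2, q)`, `q` odd, are isomorphic to it.
-/

set_option autoImplicit false

namespace CfsgLib.Recognition.PSL2Sizes

open CfsgLib.InvolChar.BSW

variable {X : Type*} [Group X] [Fintype X] {q d w : ℕ}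

/-- A normal subgroup without involutions is trivial. -/
theorem eq_bot_of_no_invol (h : OddCent X q d w) {t : X} {K : Subgroup X} {s : X} (hyp : Hyp t K s)
    (N : Subgroup X) [hN : N.Normal] (hni : ∀ u ∈ N, ¬ IsInv u) : N = ⊥ := by
  classical
  obtain ⟨hct, hconj, -, -⟩ := tight h
  obtain ⟨hq, hw, hw3, hq7, -⟩ := h.par.odd_qw
  have hd4 := h.par.four_le
  have hsub : ∀ x ∈ N, x ∈ cen t → x ∈ K := fun x hx hxc => by
    by_contra hxK
    exact hni x hx (hyp.outside hxc hxK).1
  have hmm : mm X = q * w := by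
    have e := hyp.mm_index
    have e2 := (cen t).card_mul_index
    rw [hct t hyp.invol_t, h.card, show 2 * d * q * w = 2 * d * (q * w) by ring] at e2
    rw [e, Nat.eq_of_mul_eq_mul_left (show 0 < 2 * d by omega) e2]
  set A : Subgroup X := N ⊓ cen t with hA
  -- the conjugates of `A` are disjoint and lie in `N`
  have hcount : q * w * (Nat.card A - 1) ≤ Nat.card N - 1 := by
    have hc := card_conjugates ((A : Set X) \ {1}) (cen t)
      (fun g hg a ha => ⟨⟨hN.conj_mem a ha.1.1 g, (cen t).mul_mem ((cen t).mul_mem hg ha.1.2)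
        ((cen t).inv_mem hg)⟩, fun e => ha.2 (by
          have e' : g * a * g⁻¹ = 1 := e
          simpa [mul_inv_eq_one] using e')⟩)
      (fun g a ha ha' => hyp.mem_cen_of_conj_mem (hsub a ha.1.1 ha.1.2) ha.2
        (hsub _ ha'.1.1 ha'.1.2))
    rw [← hyp.mm_index, hmm, Nat.card_coe_set_eq, Set.ncard_sdiff_singleton_of_mem A.one_mem,
      ← Nat.card_coe_set_eq] at hc
    change _ = q * w * (Nat.card A - 1) at hc
    rw [← hc, show Nat.card N - 1 = Nat.card ↥((N : Set X) \ {1}) by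
      rw [Nat.card_coe_set_eq, Set.ncard_sdiff_singleton_of_mem N.one_mem, ← Nat.card_coe_set_eq]
      rfl]
    refine Nat.card_le_card_of_injective (fun x => ⟨x.1, ?_, ?_⟩) fun a b e =>
      Subtype.ext (congrArg Subtype.val e :)
    · obtain ⟨g, hg⟩ := x.2
      have := hN.conj_mem _ hg.1.1 g⁻¹
      rwa [show g⁻¹ * (g * x.1 * g⁻¹) * g⁻¹⁻¹ = x.1 by group] at this
    · obtain ⟨g, hg⟩ := x.2
      intro e
      rw [Set.mem_singleton_iff] at e
      exact hg.2 (by rw [e]; simp)
  -- three classes of conjugates of involutions under `N`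
  have hts : IsInv (t * s) := by
    have hcs := mem_cen.1 hyp.s_mem
    refine ⟨fun e => hyp.s_not_mem ?_, ?_⟩
    · rw [eq_inv_of_mul_eq_one_right e, hyp.invol_t.inv_eq]; exact hyp.t_mem
    · calc t * s * (t * s) = t * (s * t) * s := by group
        _ = (t * t) * (s * s) := by rw [hcs]; group
        _ = 1 := by rw [hyp.invol_t.2, hyp.invol_s.2, mul_one]
  have hAv : ∀ v, IsInv v → Nat.card {y : X // y ∈ N ∧ y ∈ cen v} ≤ Nat.card A := by
    intro v hv
    obtain ⟨g, hg⟩ := isConj_iff.1 (hconj v t hv hyp.invol_t)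
    refine Nat.card_le_card_of_injective (fun y => (⟨g * y.1 * g⁻¹, hN.conj_mem _ y.2.1 g, ?_⟩ : A))
      fun a b e => Subtype.ext (mul_left_cancel (mul_right_cancel (congrArg Subtype.val e :)))
    refine mem_cen.2 ?_
    rw [← hg]
    calc g * y.1 * g⁻¹ * (g * v * g⁻¹) = g * (y.1 * v) * g⁻¹ := by group
      _ = g * (v * y.1) * g⁻¹ := by rw [mem_cen.1 y.2.2]
      _ = _ := by group
  have hthree : 3 * Nat.card N ≤ q * w * Nat.card A := by
    let T : Finset X := {t, s, t * s}
    have hT : T.card = 3 := by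
      refine Finset.card_eq_three.2 ⟨t, s, t * s, ?_, ?_, ?_, rfl⟩
      · rintro rfl; exact hyp.s_not_mem hyp.t_mem
      · intro e; exact hyp.invol_s.1 (mul_eq_left.1 e.symm)
      · intro e; exact hyp.t_ne_one (mul_eq_right.1 e.symm)
    have hTinv : ∀ v ∈ T, IsInv v := by
      intro v hv
      simp only [T, Finset.mem_insert, Finset.mem_singleton] at hv
      rcases hv with rfl | rfl | rfl
      exacts [hyp.invol_t, hyp.invol_s, hts]
    have hTN : ∀ v ∈ T, ∀ v' ∈ T, v⁻¹ * v' ∈ N → v = v' := by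
      intro v hv v' hv' hm
      by_contra hne
      refine hni _ hm ⟨fun e => hne (inv_mul_eq_one.1 e), ?_⟩
      have hcomm : v * v' = v' * v := by
        have ct : Commute t s := (mem_cen.1 hyp.s_mem).symm
        have c1 : Commute t (t * s) := (Commute.refl t).mul_right ct
        have c2 : Commute s (t * s) := ct.symm.mul_right (Commute.refl s)
        simp only [T, Finset.mem_insert, Finset.mem_singleton] at hv hv'
        rcases hv with rfl | rfl | rfl <;> rcases hv' with rfl | rfl | rfl <;>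
          first
            | rfl
            | exact ct.eq
            | exact ct.symm.eq
            | exact c1.eq
            | exact c1.symm.eq
            | exact c2.eq
            | exact c2.symm.eq
      rw [(hTinv v hv).inv_eq]
      calc v * v' * (v * v') = v * (v' * v) * v' := by group
        _ = (v * v) * (v' * v') := by rw [← hcomm]; group
        _ = 1 := by rw [(hTinv v hv).2, (hTinv v' hv').2, mul_one]
    let D : Finset (X × X) := ((Finset.univ : Finset X).filter (· ∈ N)) ×ˢ T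
    have hD : D.card = Nat.card N * 3 := by
      rw [Finset.card_product, hT, Nat.card_eq_fintype_card, Fintype.card_subtype]
    have hle := Finset.card_le_mul_card_image (f := fun p : X × X => p.1 * p.2 * p.1⁻¹) D
      (Nat.card A) fun u _ => ?_
    · rw [hD] at hle
      have h2 : (D.image fun p => p.1 * p.2 * p.1⁻¹).card ≤ q * w := by
        rw [← hmm, mm, ← Nat.card_eq_finsetCard]
        refine Nat.card_le_card_of_injective (fun x => (⟨x.1, ?_⟩ : {u : X // IsInv u}))
          fun a b e => Subtype.ext (congrArg Subtype.val e :)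
        obtain ⟨p, hp, hpx⟩ := Finset.mem_image.1 x.2
        rw [← hpx]
        exact (hTinv _ (Finset.mem_product.1 hp).2).conj _
      calc 3 * Nat.card N = Nat.card N * 3 := mul_comm _ _
        _ ≤ _ := hle
        _ ≤ Nat.card A * (q * w) := Nat.mul_le_mul_left _ h2
        _ = _ := mul_comm _ _
    · set Fib := D.filter fun p => p.1 * p.2 * p.1⁻¹ = u
      rcases Fib.eq_empty_or_nonempty with he | ⟨p₀, hp₀⟩
      · rw [he]; exact Nat.zero_le _
      obtain ⟨hpD, hp0⟩ := Finset.mem_filter.1 hp₀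
      obtain ⟨hp1, hp2⟩ := Finset.mem_product.1 hpD
      refine le_trans ?_ (hAv p₀.2 (hTinv _ hp2))
      rw [← Nat.card_eq_finsetCard]
      have hkey : ∀ p : Fib, p.1.2 = p₀.2 := by
        intro p
        obtain ⟨hD', hp'⟩ := Finset.mem_filter.1 p.2
        obtain ⟨h1, h2⟩ := Finset.mem_product.1 hD'
        refine hTN _ h2 _ hp2 ?_
        have hy : p.1.1 ∈ N := (Finset.mem_filter.1 h1).2
        have hy0 : p₀.1 ∈ N := (Finset.mem_filter.1 hp1).2
        have e : p.1.1 * p.1.2 * p.1.1⁻¹ = p₀.1 * p₀.2 * p₀.1⁻¹ := hp'.trans hp0.symm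
        have e2 : p.1.2⁻¹ * p₀.2 =
            (p.1.2⁻¹ * (p₀.1⁻¹ * p.1.1) * p.1.2) * (p.1.1⁻¹ * p₀.1) := by
          calc p.1.2⁻¹ * p₀.2 = p.1.2⁻¹ * (p₀.1⁻¹ * (p₀.1 * p₀.2 * p₀.1⁻¹) * p₀.1) := by group
            _ = p.1.2⁻¹ * (p₀.1⁻¹ * (p.1.1 * p.1.2 * p.1.1⁻¹) * p₀.1) := by rw [e]
            _ = _ := by group
        rw [e2]
        refine N.mul_mem ?_ (N.mul_mem (N.inv_mem hy) hy0)
        have := hN.conj_mem _ (N.mul_mem (N.inv_mem hy0) hy) p.1.2⁻¹
        rwa [inv_inv] at this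
      refine Nat.card_le_card_of_injective
        (fun p => (⟨p₀.1⁻¹ * p.1.1, ?_, ?_⟩ : {y : X // y ∈ N ∧ y ∈ cen p₀.2})) fun a b e =>
          Subtype.ext (Prod.ext (mul_left_cancel (congrArg Subtype.val e :)) ((hkey a).trans (hkey b).symm))
      · exact N.mul_mem (N.inv_mem (Finset.mem_filter.1 hp1).2)
          (Finset.mem_filter.1 (Finset.mem_product.1 (Finset.mem_filter.1 p.2).1).1).2
      · have e := (Finset.mem_filter.1 p.2).2.trans hp0.symm
        rw [hkey p] at e
        refine mem_cen.2 ?_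
        calc p₀.1⁻¹ * p.1.1 * p₀.2 = p₀.1⁻¹ * (p.1.1 * p₀.2 * p.1.1⁻¹) * p.1.1 := by group
          _ = p₀.1⁻¹ * (p₀.1 * p₀.2 * p₀.1⁻¹) * p.1.1 := by rw [e]
          _ = _ := by group
  -- hence `t` inverts `N`
  have hA1 : Nat.card A = 1 := by
    have h0 : 0 < Nat.card A := Nat.card_pos
    by_contra hne
    have h1 : 0 < Nat.card N := Nat.card_pos
    obtain ⟨m, hm⟩ : ∃ m, Nat.card A = m + 2 := ⟨Nat.card A - 2, by omega⟩
    rw [hm, show m + 2 - 1 = m + 1 by omega] at hcount
    rw [hm] at hthree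
    have h2 : q * w * (m + 2) ≤ q * w * (2 * (m + 1)) := Nat.mul_le_mul_left _ (by omega)
    rw [show q * w * (2 * (m + 1)) = 2 * (q * w * (m + 1)) by ring] at h2
    omega
  have hfree : ∀ y ∈ N, t * y * t⁻¹ = y → y = 1 := fun y hy e => by
    have hyA : y ∈ A := ⟨hy, mem_cen.2 (mul_inv_eq_iff_eq_mul.1 e).symm⟩
    rw [Subgroup.eq_bot_of_card_eq A hA1, Subgroup.mem_bot] at hyA
    exact hyA
  have hinvert : ∀ z ∈ N, t * z * t⁻¹ = z⁻¹ := by
    let f : N → N := fun y => ⟨(y : X)⁻¹ * (t * y * t⁻¹), N.mul_mem (N.inv_mem y.2) (hN.conj_mem _ y.2 t)⟩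
    have hf : Function.Injective f := by
      intro a b e
      have e' : (a : X)⁻¹ * (t * a * t⁻¹) = (b : X)⁻¹ * (t * b * t⁻¹) := congrArg Subtype.val e
      refine Subtype.ext (mul_inv_eq_one.1 (hfree _ (N.mul_mem b.2 (N.inv_mem a.2)) ?_)).symm
      calc t * ((b : X) * (a : X)⁻¹) * t⁻¹ = (t * b * t⁻¹) * (t * a * t⁻¹)⁻¹ := by group
        _ = ((b : X) * ((b : X)⁻¹ * (t * b * t⁻¹))) * ((a : X) * ((a : X)⁻¹ * (t * a * t⁻¹)))⁻¹ := by
            group
        _ = _ := by rw [e']; group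
    intro z hz
    obtain ⟨y, hy⟩ := Finite.surjective_of_injective hf ⟨z, hz⟩
    have e : (y : X)⁻¹ * (t * y * t⁻¹) = z := congrArg Subtype.val hy
    rw [← e, hyp.invol_t.inv_eq]
    calc t * ((y : X)⁻¹ * (t * y * t)) * t = t * (y : X)⁻¹ * t * y * (t * t) := by group
      _ = (t⁻¹ * (y : X)⁻¹ * t⁻¹) * y := by rw [hyp.invol_t.2, hyp.invol_t.inv_eq, mul_one]
      _ = _ := by group
  rw [Subgroup.eq_bot_iff_forall]
  intro x hx
  by_contra hx1
  have hab : ∀ a ∈ N, a * x = x * a := fun a ha => by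
    have e := hinvert _ (N.mul_mem ha hx)
    have e2 : t * (a * x) * t⁻¹ = a⁻¹ * x⁻¹ := by rw [← hinvert a ha, ← hinvert x hx]; group
    rw [e2, ← mul_inv_rev, inv_inj] at e
    exact e.symm
  have h1 : Nat.card N ≤ Nat.card (cen x) := Nat.card_le_card_of_injective
    (fun a => ⟨a.1, mem_cen.2 (hab _ a.2)⟩) fun a b e => Subtype.ext (congrArg Subtype.val e :)
  have h2 : Nat.card {y : X // IsConj x y} ≤ Nat.card N := Nat.card_le_card_of_injective
    (fun y => (⟨y.1, by obtain ⟨g, hg⟩ := isConj_iff.1 y.2; rw [← hg]; exact hN.conj_mem x hx g⟩ : N))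
    fun a b e => Subtype.ext (congrArg Subtype.val e :)
  have h3 := CfsgLib.Char.card_isConj_mul_card_centralizer x
  rw [h.card] at h3
  have hq1 : Nat.card (cen x) ≤ q + 1 := by
    rcases h.par.cases with h4 | h4 <;> rcases h.cent x hx1 with e | e | e | e <;> omega
  have h6 : 2 * d * q * w ≤ (q + 1) * (q + 1) := by
    rw [← h3]
    exact Nat.mul_le_mul (h2.trans (h1.trans hq1)) hq1
  have h7 : 2 * (2 * d * q * w) + q = q * (q * q) := by
    have := h.par.sq_sub_one
    calc 2 * (2 * d * q * w) + q = q * (4 * d * w + 1) := by ring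
      _ = _ := by rw [this]
  nlinarith [Nat.mul_le_mul_right (q * q) hq7]

/-- The group is simple. -/
theorem isSimpleGroup (h : OddCent X q d w) {t : X} {K : Subgroup X} {s : X} (hyp : Hyp t K s) :
    IsSimpleGroup X := by
  classical
  obtain ⟨hq, hw, hw3, hq7, -⟩ := h.par.odd_qw
  have hd4 := h.par.four_le
  haveI : Nontrivial X := ⟨⟨t, 1, hyp.t_ne_one⟩⟩
  refine ⟨fun N hN => or_iff_not_imp_left.2 fun hne => ?_⟩
  obtain ⟨u, huN, hu⟩ : ∃ u ∈ N, IsInv u := by
    by_contra hno
    push Not at hno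
    exact hne (eq_bot_of_no_invol h hyp N hno)
  have hinv : ∀ v, IsInv v → v ∈ N := fun v hv => by
    obtain ⟨g, hg⟩ := isConj_iff.1 (hyp.conj u v hu hv)
    rw [← hg]; exact hN.conj_mem u huN g
  have hprod : ∀ x, InW d x → x ∈ N := fun x hx => by
    obtain ⟨-, -, -, hW⟩ := tight h
    obtain ⟨hf, -⟩ := hW x hx
    by_contra hxN
    have : nInv x = 0 := Nat.card_eq_zero.2 (Or.inl ⟨fun z => hxN (by
      have := N.mul_mem (N.inv_mem (hinv _ z.2.1)) (hinv _ z.2.2)
      rwa [inv_mul_cancel_left] at this)⟩)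
    omega
  have hC : cen t ≤ N := fun g hg => by
    by_cases hgK : g ∈ K
    · have h1 : g * s ∉ K := fun e => hyp.s_not_mem (by simpa using K.mul_mem (K.inv_mem hgK) e)
      have h2 := hinv _ (hyp.outside ((cen t).mul_mem hg hyp.s_mem) h1).1
      simpa [mul_assoc, hyp.invol_s.2] using N.mul_mem h2 (hinv s hyp.invol_s)
    · exact hinv g (hyp.outside hg hgK).1
  obtain ⟨a, -, hcd, -⟩ := exists_class_counts h
  have hsize : d * (q * w) + 1 ≤ Nat.card N + q * w := by
    rw [← hcd, Nat.card_eq_fintype_card, Fintype.card_subtype]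
    rw [← Finset.card_union_of_disjoint (Finset.disjoint_filter.2 fun x _ e e' => by omega)]
    have h1 : (1 : X) ∉ (Finset.univ.filter fun x : X => Nat.card (cen x) = 2 * d) ∪
        Finset.univ.filter fun x : X => Nat.card (cen x) = d := by
      intro e
      have h2 : cen (1 : X) = ⊤ := eq_top_iff.2 fun g _ => mem_cen.2 (by simp)
      simp only [Finset.mem_union, Finset.mem_filter, Finset.mem_univ, true_and, h2,
        Subgroup.card_top, h.card] at e
      have : 2 * d * 1 < 2 * d * (q * w) := Nat.mul_lt_mul_of_pos_left (by nlinarith) (by omega)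
      rw [← mul_assoc] at this
      omega
    rw [add_right_comm, ← Finset.card_insert_of_notMem h1]
    refine Nat.add_le_add_right (Finset.card_le_card fun x hx => ?_) _
    refine Finset.mem_filter.2 ⟨Finset.mem_univ _, ?_⟩
    rcases Finset.mem_insert.1 hx with rfl | hx'
    · exact N.one_mem
    · by_cases hi : IsInv x
      · exact hinv x hi
      · refine hprod x ⟨fun e => h1 (e ▸ hx'), hi, ?_⟩
        rcases Finset.mem_union.1 hx' with e | e
        · exact Or.inl (Finset.mem_filter.1 e).2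
        · exact Or.inr (Finset.mem_filter.1 e).2
  have hidx : Odd N.index := by
    refine Odd.of_dvd_nat (hq.mul hw) ((Subgroup.index_dvd_of_le hC).trans (dvd_of_eq ?_))
    have e2 := (cen t).card_mul_index
    rw [(tight h).1 t hyp.invol_t, h.card, show 2 * d * q * w = 2 * d * (q * w) by ring] at e2
    exact Nat.eq_of_mul_eq_mul_left (show 0 < 2 * d by omega) e2
  have h1 := N.card_mul_index
  rw [h.card] at h1
  rw [← Subgroup.index_eq_one]
  by_contra hne1
  have h3 : 3 ≤ N.index := by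
    obtain ⟨m, hm⟩ := hidx; omega
  have h4 : Nat.card N * 3 ≤ 2 * d * q * w := h1 ▸ Nat.mul_le_mul_left _ h3
  have h5 : 4 * (q * w) ≤ d * (q * w) := Nat.mul_le_mul_right _ hd4
  rw [show 2 * d * q * w = 2 * (d * (q * w)) by ring] at h4
  omega

/-- Recognition of `PSL(2, q)`, `q` odd, by the orders of the centralisers. -/
theorem nonempty_psl_odd {F : Type*} [Field F] [Fintype F] (h : OddCent X q d w)
    (hF : Fintype.card F = q) : Nonempty (X ≃* Matrix.ProjectiveSpecialLinearGroup (Fin 2) F) := by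
  classical
  obtain ⟨t, K, s, hyp, -, -⟩ := exists_hyp h
  haveI := isSimpleGroup h hyp
  have hna : ¬ IsMulCommutative X := fun hc => hyp.s_not_mem (by
    have e := hyp.inf_eq
    have h1 : cen t = ⊤ := eq_top_iff.2 fun g _ => mem_cen.2 (hc.is_comm.comm g t)
    have h2 := (tight h).1 t hyp.invol_t
    rw [h1, Subgroup.card_top, h.card] at h2
    obtain ⟨hq, hw, hw3, hq7, -⟩ := h.par.odd_qw
    have hd4 := h.par.four_le
    have : 2 * d * 1 < 2 * d * (q * w) := Nat.mul_lt_mul_of_pos_left (by nlinarith) (by omega)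
    rw [← mul_assoc] at this
    omega)
  obtain ⟨o, Θ, η₁, η₂, j, c⟩ := core hyp
  have hconc : Conclusion X := by
    rcases c.hj with hj | hj
    · exact case_one hyp c hj
    · exact case_two hyp c hj
  obtain ⟨Q, D, hQ, hC, -, hD, hQD, hN, -⟩ := hconc
  obtain ⟨L, _, _, hL2, ⟨e⟩⟩ :=
    CfsgLib.PGroup.SelfCentSimple.psl_of_self_cent_kernel hna Q D hQ hC hD hQD hN
  have h2 : (2 : L) ≠ 0 := Ring.two_ne_zero hL2
  have hcard := CfsgLib.PGroup.SelfCentSimple.two_card_psl (F := L) h2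
  rw [← Nat.card_congr e.toEquiv, h.card] at hcard
  have hqk : Fintype.card L = q := by
    set k := Fintype.card L
    have h1 : 1 ≤ k ^ 2 := Nat.one_le_pow _ _ Fintype.card_pos
    have h3 : k * (k ^ 2 - 1) + k = k ^ 3 := by
      rw [← Nat.mul_succ, Nat.succ_eq_add_one, Nat.sub_add_cancel h1]; ring
    have h4 : 2 * (2 * d * q * w) + q = q ^ 3 := by
      calc 2 * (2 * d * q * w) + q = q * (4 * d * w + 1) := by ring
        _ = _ := by rw [h.par.sq_sub_one]; ring
    have h5 : ((k : ℤ) - q) * ((k : ℤ) ^ 2 + k * q + q ^ 2 - 1) = 0 := by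
      have e1 : ((k * (k ^ 2 - 1) + k : ℕ) : ℤ) = ((k ^ 3 : ℕ) : ℤ) := by rw [h3]
      have e2 : ((2 * (2 * d * q * w) + q : ℕ) : ℤ) = ((q ^ 3 : ℕ) : ℤ) := by rw [h4]
      rw [← hcard] at e1
      push_cast at e1 e2
      linear_combination e2 - e1
    have h6 : (0 : ℤ) < (k : ℤ) ^ 2 + k * q + q ^ 2 - 1 := by
      have : (7 : ℤ) ≤ q := by exact_mod_cast h.par.odd_qw.2.2.2.1
      nlinarith
    exact_mod_cast sub_eq_zero.1 ((mul_eq_zero.1 h5).resolve_right h6.ne')
  obtain ⟨σ⟩ : Nonempty (L ≃+* F) := ⟨FiniteField.ringEquivOfCardEq (hqk.trans hF.symm)⟩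
  exact ⟨e.trans (CfsgLib.Classical.Dickson.pslCongr σ)⟩

end CfsgLib.Recognition.PSL2Sizes
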