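import Cfsg.Agent.Lib.Recognition.PSL2Sizes.OddCount
import Cfsg.Agent.Lib.Recognition.PSL2Sizes.Central

/-!
Groups with the centraliser orders of `PSL(2, q)`, `q` odd: the Brauer-Suzuki-Wall configuration.
-/

set_option autoImplicit false

namespace CfsgLib.Recognition.PSL2Sizes

open CfsgLib.InvolChar.BSW

variable {X : Type*} [Group X] [Fintype X] {q d w : ℕ}

/-- The elements other than involutions whose centralisers meet the involutions. -/
def InW (d : ℕ) (x : X) : Prop :=
  x ≠ 1 ∧ ¬ IsInv x ∧ (Nat.card (cen x) = 2 * d ∨ Nat.card (cen x) = d)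

omit [Fintype X] in
theorem orderOf_dvd_cen (x : X) : orderOf x ∣ Nat.card (cen x) := by
  have h : x ∈ cen x := mem_cen.mpr rfl
  have h1 : orderOf (⟨x, h⟩ : cen x) ∣ Nat.card (cen x) := orderOf_dvd_natCard _
  rwa [Subgroup.orderOf_mk] at h1

omit [Fintype X] in
theorem two_dvd_cen {x t : X} (ht : IsInv t) (hc : t * x = x * t) : 2 ∣ Nat.card (cen x) := by
  have h : t ∈ cen x := mem_cen.mpr hc
  have h1 : orderOf (⟨t, h⟩ : cen x) ∣ Nat.card (cen x) := orderOf_dvd_natCard _
  rwa [Subgroup.orderOf_mk, isInv_iff.1 ht] at h1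

theorem cen_cases_even (h : OddCent X q d w) {x t : X} (hx : x ≠ 1) (ht : IsInv t)
    (hc : t * x = x * t) : Nat.card (cen x) = 2 * d ∨ Nat.card (cen x) = d := by
  have h2 := two_dvd_cen ht hc
  obtain ⟨hq, hw, -⟩ := h.par.odd_qw
  rcases h.cent x hx with e | e | e | e
  · exact absurd (e ▸ h2) (fun h' => Nat.not_even_iff_odd.2 hq (even_iff_two_dvd.2 h'))
  · exact Or.inl e
  · exact Or.inr e
  · exact absurd (e ▸ h2) (fun h' => Nat.not_even_iff_odd.2 hw (even_iff_two_dvd.2 h'))

theorem cen_invol (h : OddCent X q d w) {t : X} (ht : IsInv t) :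
    Nat.card (cen t) = 2 * d ∨ Nat.card (cen t) = d :=
  cen_cases_even h ht.1 ht rfl

/-- An element with centraliser of order `2d` other than an involution is not inverted. -/
theorem nInv_eq_zero (h : OddCent X q d w) {x : X} (hc : Nat.card (cen x) = 2 * d) (hx : x * x ≠ 1) :
    nInv x = 0 := by
  rw [nInv, Nat.card_eq_zero]
  refine Or.inl ⟨fun ⟨s, hs, hsx⟩ => ?_⟩
  have hinv := inverts_of_inv hs hsx
  have hsC : s ∉ cen x := fun hm => hx (by
    rw [mem_cen] at hm
    rw [hm, mul_inv_cancel_right] at hinv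
    exact mul_eq_one_iff_eq_inv.2 hinv)
  set N := Subgroup.normalizer (cen x : Set X)
  have hsN : s ∈ N := by
    rw [Subgroup.mem_normalizer_iff]
    intro b
    have e1 : s * x = x⁻¹ * s := by rw [← hinv]; group
    have e2 : s⁻¹ * x⁻¹ * s = x := by rw [← hinv]; group
    constructor <;> intro hb <;> rw [mem_cen] at hb ⊢
    · calc s * b * s⁻¹ * x = s * (b * x⁻¹) * s⁻¹ := by
            rw [hs.inv_eq]
            calc s * b * s * x = s * b * (s * x) := by group
              _ = s * b * (x⁻¹ * s) := by rw [e1]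
              _ = _ := by group
        _ = s * (x⁻¹ * b) * s⁻¹ := by rw [(Commute.inv_right (hb : Commute b x)).eq]
        _ = _ := by
            rw [hs.inv_eq]
            calc s * (x⁻¹ * b) * s = (s * x⁻¹) * b * s := by group
              _ = (x * s) * b * s := by
                rw [show s * x⁻¹ = x * s by
                  calc s * x⁻¹ = s * (s * x * s⁻¹) := by rw [hinv]
                    _ = s * s * x * s⁻¹ := by group
                    _ = x * s := by rw [hs.2, hs.inv_eq, one_mul]]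
              _ = _ := by group
    · have hb' : s * b * s⁻¹ * x⁻¹ = x⁻¹ * (s * b * s⁻¹) :=
        (Commute.inv_right (hb : Commute (s * b * s⁻¹) x)).eq
      calc b * x = s⁻¹ * (s * b * s⁻¹ * (s * x * s⁻¹)) * s := by group
        _ = s⁻¹ * (s * b * s⁻¹ * x⁻¹) * s := by rw [hinv]
        _ = s⁻¹ * (x⁻¹ * (s * b * s⁻¹)) * s := by rw [hb']
        _ = (s⁻¹ * x⁻¹ * s) * b := by group
        _ = _ := by rw [e2]
  have h2 : 2 ∣ (cen x).relIndex N := by
    have he : orderOf (QuotientGroup.mk (⟨s, hsN⟩ : N) : ↥N ⧸ (cen x).subgroupOf N) = 2 := by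
      refine orderOf_eq_prime ?_ fun e => hsC ?_
      · rw [← QuotientGroup.mk_pow, pow_two]
        have : (⟨s, hsN⟩ : N) * ⟨s, hsN⟩ = 1 := Subtype.ext hs.2
        rw [this]; rfl
      · rw [QuotientGroup.eq_one_iff, Subgroup.mem_subgroupOf] at e
        exact e
    exact he ▸ orderOf_dvd_natCard _
  have h3 : 2 * (2 * d) ∣ 2 * d * q * w := by
    rw [← h.card]
    refine dvd_trans ?_ N.card_subgroup_dvd_card
    have h4 := Subgroup.relIndex_mul_relIndex ⊥ (cen x) N bot_le
      (Subgroup.le_normalizer)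
    rw [Subgroup.relIndex_bot_left, Subgroup.relIndex_bot_left, hc] at h4
    rw [← h4, mul_comm 2 (2 * d)]
    exact Nat.mul_dvd_mul_left _ h2
  rw [show 2 * d * q * w = 2 * d * (q * w) by ring, mul_comm 2 (2 * d)] at h3
  have h5 := Nat.dvd_of_mul_dvd_mul_left (by have := h.par.four_le; omega) h3
  obtain ⟨hq, hw, -⟩ := h.par.odd_qw
  exact Nat.not_even_iff_odd.2 (hq.mul hw) (even_iff_two_dvd.2 h5)

open scoped Classical in
theorem exists_class_counts (h : OddCent X q d w) :
    ∃ a : ℕ, (Finset.univ.filter fun x : X => Nat.card (cen x) = q).card = 4 * d * w ∧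
      (Finset.univ.filter fun x : X => Nat.card (cen x) = 2 * d).card +
        (Finset.univ.filter fun x : X => Nat.card (cen x) = d).card + q * w = d * (q * w) ∧
      (Finset.univ.filter fun x : X => Nat.card (cen x) = w).card = a * (2 * d * q) ∧
      (q = 2 * d + 1 → 2 * a = d) ∧ (q + 1 = 2 * d → 2 * a + 2 = d) := by
  obtain ⟨hq, hw, hw3, hq7, hqw, hqd, hq2d, hwd⟩ := h.par.odd_qw
  have hd4 := h.par.four_le
  have hL : Fintype.card X = 2 * d * q * w := by rw [← Nat.card_eq_fintype_card, h.card]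
  obtain ⟨k₁, h₁⟩ := exists_count (X := X) q
  obtain ⟨k₂, h₂⟩ := exists_count (X := X) (2 * d)
  obtain ⟨k₃, h₃⟩ := exists_count (X := X) d
  obtain ⟨k₄, h₄⟩ := exists_count (X := X) w
  rw [h.card] at h₁ h₂ h₃ h₄
  have e₁ : (Finset.univ.filter fun x : X => Nat.card (cen x) = q).card = k₁ * (2 * d * w) :=
    Nat.eq_of_mul_eq_mul_right (show 0 < q by omega) (h₁.trans (by ring))
  have e₂ : (Finset.univ.filter fun x : X => Nat.card (cen x) = 2 * d).card = k₂ * (q * w) :=
    Nat.eq_of_mul_eq_mul_right (show 0 < 2 * d by omega) (h₂.trans (by ring))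
  have e₃ : (Finset.univ.filter fun x : X => Nat.card (cen x) = d).card = k₃ * (2 * q * w) :=
    Nat.eq_of_mul_eq_mul_right (show 0 < d by omega) (h₃.trans (by ring))
  have e₄ : (Finset.univ.filter fun x : X => Nat.card (cen x) = w).card = k₄ * (2 * d * q) :=
    Nat.eq_of_mul_eq_mul_right (show 0 < w by omega) (h₄.trans (by ring))
  have h1 : Nat.card (cen (1 : X)) = 2 * d * q * w := by
    have : cen (1 : X) = ⊤ := eq_top_iff.2 fun g _ => mem_cen.2 (by simp)
    rw [this, Subgroup.card_top, h.card]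
  have hpt : ∀ x : X, (1 : ℕ) = (if x = 1 then 1 else 0) + (if Nat.card (cen x) = q then 1 else 0) +
      (if Nat.card (cen x) = 2 * d then 1 else 0) + (if Nat.card (cen x) = d then 1 else 0) +
      (if Nat.card (cen x) = w then 1 else 0) := by
    intro x
    rcases eq_or_ne x 1 with rfl | hx
    · have hbig : q < 2 * d * q * w ∧ 2 * d < 2 * d * q * w ∧ w < 2 * d * q * w := by
        have k1 : 1 < 2 * d * w := by nlinarith
        have k2 : 1 < q * w := by nlinarith
        have k3 : 1 < 2 * d * q := by nlinarith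
        have j1 : q * 1 < q * (2 * d * w) := Nat.mul_lt_mul_of_pos_left k1 (by omega)
        have j2 : 2 * d * 1 < 2 * d * (q * w) := Nat.mul_lt_mul_of_pos_left k2 (by omega)
        have j3 : 1 * w < 2 * d * q * w := Nat.mul_lt_mul_of_pos_right k3 (by omega)
        refine ⟨?_, ?_, ?_⟩ <;> linarith
      simp [-Nat.card_eq_fintype_card, h1, hbig.1.ne', hbig.2.1.ne', hbig.2.2.ne', show 2 * d * q * w ≠ d by omega]
    · rcases h.cent x hx with e | e | e | e <;>
        simp [-Nat.card_eq_fintype_card, hx, e, hqw, hqd, hq2d, hwd, hqw.symm, hqd.symm, hq2d.symm, hwd.symm,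
          show 2 * d ≠ d by omega, show d ≠ 2 * d by omega, show 2 * d ≠ w by
            intro e'; rw [Nat.odd_iff] at hw; omega, show w ≠ 2 * d by
            intro e'; rw [Nat.odd_iff] at hw; omega]
  have hsum := Finset.sum_congr rfl (fun x (_ : x ∈ (Finset.univ : Finset X)) => hpt x)
  rw [Finset.sum_const, Finset.card_univ, hL, smul_eq_mul, mul_one] at hsum
  simp only [Finset.sum_add_distrib, ← Finset.card_filter] at hsum
  rw [show (Finset.univ.filter fun i : X => i = 1) = {1} by ext; simp, Finset.card_singleton,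
    e₁, e₂, e₃, e₄] at hsum
  obtain ⟨rfl, hD, hplus, hminus⟩ :=
    h.par.solve (e := k₁) (a := k₄) (D := k₂ + 2 * k₃) (hsum.trans (by ring))
  refine ⟨k₄, by rw [e₁]; ring, ?_, e₄, hplus, hminus⟩
  rw [e₂, e₃, ← hD]
  ring

/-- In the case `q + 1 = 2d` no element with centraliser of order `q` is inverted. -/
theorem nInv_eq_zero_q (h : OddCent X q d w) (hm : q + 1 = 2 * d) {u : X}
    (hc : Nat.card (cen u) = q) : nInv u = 0 := by
  classical
  rw [nInv, Nat.card_eq_zero]
  refine Or.inl ⟨fun ⟨j, hj, hju⟩ => ?_⟩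
  obtain ⟨hq, hw, hw3, hq7, -⟩ := h.par.odd_qw
  obtain ⟨p, n, hp, hqp⟩ := h.pow
  have := Fact.mk hp
  have hn0 : n ≠ 0 := by rintro rfl; rw [pow_zero] at hqp; omega
  set Q := cen u with hQ
  have hinv := inverts_of_inv hj hju
  have hjQ : ∀ y ∈ Q, j * y * j⁻¹ ∈ Q := by
    intro y hy
    rw [hQ, mem_cen] at hy ⊢
    have hy' : y * u⁻¹ = u⁻¹ * y := (Commute.inv_right (hy : Commute y u)).eq
    have e : j * u⁻¹ * j⁻¹ = u := by rw [← conj_inv, hinv, inv_inv]
    calc j * y * j⁻¹ * u = j * y * j⁻¹ * (j * u⁻¹ * j⁻¹) := by rw [e]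
      _ = j * (y * u⁻¹) * j⁻¹ := by group
      _ = j * (u⁻¹ * y) * j⁻¹ := by rw [hy']
      _ = (j * u⁻¹ * j⁻¹) * (j * y * j⁻¹) := by group
      _ = _ := by rw [e]
  have hpc : ∀ y ∈ Q, y ≠ 1 → Nat.card (cen y) = q := by
    intro y hy hy1
    have h1 : orderOf (⟨y, hy⟩ : Q) ∣ Nat.card Q := orderOf_dvd_natCard _
    rw [Subgroup.orderOf_mk, hc, hqp] at h1
    obtain ⟨i, -, hi⟩ := (Nat.dvd_prime_pow hp).1 h1
    have hpy : p ∣ Nat.card (cen y) := by
      refine dvd_trans ?_ (orderOf_dvd_cen y)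
      rw [hi]
      exact dvd_pow_self p fun e => hy1 (orderOf_eq_one_iff.1 (by rw [hi, e, pow_zero]))
    have hco : ∀ m, m ∣ 2 * d * w → ¬ p ∣ m := fun m hm' hpm => hp.ne_one
      (Nat.eq_one_of_dvd_coprimes h.par.coprime.1 (hqp ▸ dvd_pow_self p hn0) (hpm.trans hm'))
    rcases h.cent y hy1 with e | e | e | e
    · exact e
    · exact absurd (e ▸ hpy) (hco _ ⟨w, rfl⟩)
    · exact absurd (e ▸ hpy) (hco _ ⟨2 * w, by ring⟩)
    · exact absurd (e ▸ hpy) (hco _ ⟨2 * d, by ring⟩)
  have hfree : ∀ y ∈ Q, j * y * j⁻¹ = y → y = 1 := by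
    intro y hy e
    by_contra hy1
    have h2 := two_dvd_cen hj (mul_inv_eq_iff_eq_mul.1 e)
    rw [hpc y hy hy1] at h2
    exact Nat.not_even_iff_odd.2 hq (even_iff_two_dvd.2 h2)
  have hinvert : ∀ z ∈ Q, j * z * j⁻¹ = z⁻¹ := by
    let f : Q → Q := fun y => ⟨(y : X)⁻¹ * (j * y * j⁻¹), Q.mul_mem (Q.inv_mem y.2) (hjQ y y.2)⟩
    have hf : Function.Injective f := by
      intro a b e
      have e' : (a : X)⁻¹ * (j * a * j⁻¹) = (b : X)⁻¹ * (j * b * j⁻¹) := congrArg Subtype.val e
      refine Subtype.ext (mul_inv_eq_one.1 (hfree _ (Q.mul_mem b.2 (Q.inv_mem a.2)) ?_)).symm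
      calc j * ((b : X) * (a : X)⁻¹) * j⁻¹ = (j * b * j⁻¹) * (j * a * j⁻¹)⁻¹ := by group
        _ = ((b : X) * ((b : X)⁻¹ * (j * b * j⁻¹))) * ((a : X) * ((a : X)⁻¹ * (j * a * j⁻¹)))⁻¹ := by
            group
        _ = _ := by rw [e']; group
    intro z hz
    obtain ⟨y, hy⟩ := Finite.surjective_of_injective hf ⟨z, hz⟩
    have e : (y : X)⁻¹ * (j * y * j⁻¹) = z := congrArg Subtype.val hy
    rw [← e, hj.inv_eq]
    calc j * ((y : X)⁻¹ * (j * y * j)) * j = j * (y : X)⁻¹ * j * y * (j * j) := by group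
      _ = (j⁻¹ * (y : X)⁻¹ * j⁻¹) * y := by rw [hj.2, hj.inv_eq, mul_one]
      _ = _ := by group
  have hab : ∀ a ∈ Q, ∀ b ∈ Q, a * b = b * a := by
    intro a ha b hb
    have e := hinvert _ (Q.mul_mem ha hb)
    have e2 : j * (a * b) * j⁻¹ = a⁻¹ * b⁻¹ := by
      rw [← hinvert a ha, ← hinvert b hb]; group
    rw [e2, ← mul_inv_rev, inv_inj] at e
    exact e.symm
  have hCQ : ∀ y ∈ Q, y ≠ 1 → cen y = Q := fun y hy hy1 =>
    (Subgroup.eq_of_le_of_card_ge (fun a ha => mem_cen.2 (hab a ha y hy))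
      (by rw [hpc y hy hy1, hc])).symm
  obtain ⟨a, hcnt, -⟩ := exists_class_counts h
  have hidx : ¬ p ∣ Q.index := by
    intro hd
    have h1 := Q.card_mul_index
    rw [hc, h.card, show 2 * d * q * w = q * (2 * d * w) by ring] at h1
    rw [Nat.eq_of_mul_eq_mul_left (show 0 < q by omega) h1] at hd
    exact hp.ne_one (Nat.eq_one_of_dvd_coprimes h.par.coprime.1 (hqp ▸ dvd_pow_self p hn0) hd)
  have hset : Nat.card {x : X // ∃ g : X, g * x * g⁻¹ ∈ ((Q : Set X) \ {1})} = 4 * d * w := by
    rw [← hcnt, Nat.subtype_card]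
    intro x
    simp only [Finset.mem_filter, Finset.mem_univ, true_and, Set.mem_sdiff, SetLike.mem_coe,
      Set.mem_singleton_iff]
    constructor
    · intro hx
      have h1 := orderOf_dvd_cen x
      rw [hx, hqp] at h1
      obtain ⟨i, -, hi⟩ := (Nat.dvd_prime_pow hp).1 h1
      obtain ⟨g, hg⟩ := exists_conj_mem hi Q hidx
      refine ⟨g⁻¹, by rwa [inv_inv], fun e => ?_⟩
      have hx1 : x = 1 := by
        rw [inv_inv] at e
        calc x = g * (g⁻¹ * x * g) * g⁻¹ := by group
          _ = 1 := by rw [e]; group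
      subst hx1
      have h2 : cen (1 : X) = ⊤ := eq_top_iff.2 fun g _ => mem_cen.2 (by simp)
      rw [h2, Subgroup.card_top, h.card] at hx
      nlinarith [h.par.four_le]
    · rintro ⟨g, hg, hg1⟩
      rw [← hpc _ hg hg1]
      refine Nat.card_congr ((MulAut.conj g).toEquiv.subtypeEquiv fun a => ?_)
      simp only [mem_cen, MulEquiv.toEquiv_eq_coe, EquivLike.coe_coe, MulAut.conj_apply]
      constructor <;> intro h'
      · calc g * a * g⁻¹ * (g * x * g⁻¹) = g * (a * x) * g⁻¹ := by group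
          _ = g * (x * a) * g⁻¹ := by rw [h']
          _ = _ := by group
      · calc a * x = g⁻¹ * (g * a * g⁻¹ * (g * x * g⁻¹)) * g := by group
          _ = g⁻¹ * ((g * x * g⁻¹) * (g * a * g⁻¹)) * g := by rw [h']
          _ = _ := by group
  set N := Subgroup.normalizer (Q : Set X)
  have hcc := card_conjugates ((Q : Set X) \ {1}) N
    (fun g hg a ha => ⟨(Subgroup.mem_normalizer_iff.mp hg a).mp ha.1, fun e => ha.2 (by
      have e' : g * a * g⁻¹ = 1 := e
      simpa [mul_inv_eq_one] using e')⟩)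
    (fun g a ha ha' => by
      have e1 := hCQ a ha.1 ha.2
      have e2 := hCQ _ ha'.1 ha'.2
      rw [Subgroup.mem_normalizer_iff]
      intro b
      suffices A : b ∈ cen a ↔ g * b * g⁻¹ ∈ cen (g * a * g⁻¹) by rwa [e1, e2] at A
      rw [mem_cen, mem_cen]
      constructor <;> intro h'
      · calc g * b * g⁻¹ * (g * a * g⁻¹) = g * (b * a) * g⁻¹ := by group
          _ = g * (a * b) * g⁻¹ := by rw [h']
          _ = _ := by group
      · calc b * a = g⁻¹ * (g * b * g⁻¹ * (g * a * g⁻¹)) * g := by group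
          _ = g⁻¹ * ((g * a * g⁻¹) * (g * b * g⁻¹)) * g := by rw [h']
          _ = _ := by group)
  have hcardS : Nat.card ↥((Q : Set X) \ {1}) = q - 1 := by
    rw [Nat.card_coe_set_eq, Set.ncard_sdiff_singleton_of_mem (Q.one_mem), ← Nat.card_coe_set_eq]
    rw [← hc]
    rfl
  rw [hset, hcardS] at hcc
  have hN : N.index = q + 1 := by
    refine Nat.eq_of_mul_eq_mul_right (show 0 < q - 1 by omega) (hcc.symm.trans ?_)
    have := h.par.sq_sub_one
    obtain ⟨v, rfl⟩ : ∃ v, q = v + 1 := ⟨q - 1, by omega⟩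
    rw [Nat.add_sub_cancel]
    nlinarith
  have hjN : j ∈ N := by
    rw [Subgroup.mem_normalizer_iff]
    refine fun b => ⟨hjQ b, fun hb => ?_⟩
    have := hjQ _ hb
    rw [hj.inv_eq] at this
    rwa [show j * (j * b * j) * j = (j * j) * b * (j * j) by group, hj.2, one_mul, mul_one] at this
  have h2 : 2 ∣ Nat.card N := by
    have h3 : orderOf (⟨j, hjN⟩ : N) ∣ Nat.card N := orderOf_dvd_natCard _
    rwa [Subgroup.orderOf_mk, isInv_iff.1 hj] at h3
  have h4 := N.card_mul_index
  rw [hN, h.card, show 2 * d * q * w = (q * w) * (2 * d) by ring, hm] at h4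
  rw [Nat.eq_of_mul_eq_mul_right (show 0 < 2 * d by omega) h4] at h2
  exact Nat.not_even_iff_odd.2 (hq.mul hw) (even_iff_two_dvd.2 h2)

set_option maxHeartbeats 1000000 in
/-- All involutions are conjugate, and noninvolutions with even centralisers are fully inverted. -/
theorem tight (h : OddCent X q d w) :
    (∀ t : X, IsInv t → Nat.card (cen t) = 2 * d) ∧
    (∀ x y : X, IsInv x → IsInv y → IsConj x y) ∧
    (∃ x : X, InW d x) ∧
    ∀ x : X, InW d x → nInv x = d ∧ Nat.card (cen x) = d ∧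
      Nat.card {t : X // IsInv t ∧ t * x = x * t} = 1 := by
  classical
  obtain ⟨hq, hw, hw3, hq7, hqw, hqd, hq2d, hwd⟩ := h.par.odd_qw
  have hd4 := h.par.four_le
  obtain ⟨a, hcq, hcd, hcw, hplus, hminus⟩ := exists_class_counts h
  obtain ⟨m, hm⟩ := h.par.even_d
  obtain ⟨t₀, ht₀⟩ : ∃ t : X, IsInv t := by
    obtain ⟨t, ht⟩ := exists_prime_orderOf_dvd_card' (G := X) 2 ⟨d * q * w, by rw [h.card]; ring⟩
    exact ⟨t, isInv_iff.2 ht⟩
  have hclass : ∀ t : X, IsInv t → q * w ≤ Nat.card {x : X // IsConj t x} ∧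
      Nat.card {x : X // IsConj t x} ≤ mm X := by
    intro t ht
    refine ⟨?_, Nat.card_le_card_of_injective (fun x => (⟨x.1, ?_⟩ : {u : X // IsInv u}))
      fun a b e => Subtype.ext (congrArg Subtype.val e :)⟩
    · have e := CfsgLib.Char.card_isConj_mul_card_centralizer t
      rw [h.card] at e
      have hle : Nat.card (cen t) ≤ 2 * d := by rcases cen_invol h ht with e' | e' <;> omega
      refine Nat.le_of_mul_le_mul_right ?_ (show 0 < 2 * d by omega)
      calc q * w * (2 * d) = 2 * d * q * w := by ring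
        _ = Nat.card {x : X // IsConj t x} * Nat.card (cen t) := e.symm
        _ ≤ _ := Nat.mul_le_mul_left _ hle
    · obtain ⟨g, hg⟩ := isConj_iff.1 x.2
      rw [← hg]; exact ht.conj g
  let nc : X → ℕ := fun t => (Finset.univ.filter fun x => InW d x ∧ t * x = x * t).card
  let ni : X → ℕ := fun x => (Finset.univ.filter fun t => IsInv t ∧ t * x = x * t).card
  let W1 : X → ℕ := fun x => if InW d x then 1 else 0
  let J1 : X → ℕ := fun x => if IsInv x then 1 else 0
  let E1 : ℕ := if q = 2 * d + 1 then q else 0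
  -- involution counts
  have hmm : ∑ x, J1 x = mm X := by
    rw [← Finset.card_filter, mm, Nat.card_eq_fintype_card, Fintype.card_subtype]
  have hWI : ∑ x, W1 x + ∑ x, J1 x + q * w = d * (q * w) := by
    rw [← hcd, Finset.card_filter, Finset.card_filter, ← Finset.sum_add_distrib,
      ← Finset.sum_add_distrib]
    congr 1
    refine Finset.sum_congr rfl fun x _ => ?_
    simp only [W1, J1]
    by_cases hi : IsInv x
    · rcases cen_invol h hi with e | e <;>
        simp [-Nat.card_eq_fintype_card, InW, hi, e, show 2 * d ≠ d by omega, show d ≠ 2 * d by omega]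
    by_cases hx : x = 1
    · subst hx
      have h2 : cen (1 : X) = ⊤ := eq_top_iff.2 fun g _ => mem_cen.2 (by simp)
      have h3 : 2 * d < 2 * d * q * w := by nlinarith
      rw [h2, Subgroup.card_top, h.card]
      simp [-Nat.card_eq_fintype_card, InW, hi, h3.ne', show 2 * d * q * w ≠ d by omega]
    · by_cases h1 : Nat.card (cen x) = 2 * d
      · simp [-Nat.card_eq_fintype_card, InW, hi, hx, h1, show 2 * d ≠ d by omega]
      · by_cases h2 : Nat.card (cen x) = d
        · simp [-Nat.card_eq_fintype_card, InW, hi, hx, h2, show d ≠ 2 * d by omega]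
        · simp [-Nat.card_eq_fintype_card, InW, hi, hx, h1, h2]
  have hswap : ∑ t, J1 t * nc t = ∑ x, W1 x * ni x := by
    simp only [J1, W1, nc, ni, Finset.card_filter, Finset.mul_sum]
    rw [Finset.sum_comm]
    refine Finset.sum_congr rfl fun x _ => Finset.sum_congr rfl fun t _ => ?_
    by_cases h1 : IsInv t <;> by_cases h2 : InW d x <;> simp [h1, h2]
  have hni : ∀ x, InW d x → 1 ≤ ni x := by
    intro x hx
    have h2 : 2 ∣ Nat.card (cen x) := by rcases hx.2.2 with e | e <;> rw [e] <;> omega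
    obtain ⟨⟨t, htC⟩, ht⟩ := exists_prime_orderOf_dvd_card' 2 h2
    rw [Subgroup.orderOf_mk] at ht
    exact Finset.card_pos.2 ⟨t, Finset.mem_filter.2 ⟨Finset.mem_univ _, isInv_iff.2 ht, mem_cen.1 htC⟩⟩
  have hnW : ∀ x : X, InW d x → nInv x ≤ d := by
    intro x hx
    rcases hx.2.2 with e | e
    · rw [nInv_eq_zero h e fun e' => hx.2.1 ⟨hx.1, e'⟩]; exact Nat.zero_le _
    · exact e ▸ nInv_le x
  have hI : ∀ t, IsInv t → nInv t + nc t + 2 ≤ 2 * d := by
    intro t ht
    have hle : Nat.card (cen t) ≤ 2 * d := by rcases cen_invol h ht with e | e <;> omega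
    refine le_trans ?_ hle
    let A : Finset X := Finset.univ.filter fun s => IsInv s ∧ IsInv (s * t)
    let B : Finset X := Finset.univ.filter fun x => InW d x ∧ t * x = x * t
    have hA : nInv t = A.card := by rw [nInv, Nat.card_eq_fintype_card, Fintype.card_subtype]
    have hAB : Disjoint A B := Finset.disjoint_left.2 fun x hx hx' =>
      (Finset.mem_filter.1 hx').2.1.2.1 (Finset.mem_filter.1 hx).2.1
    have h1t : Disjoint (A ∪ B) {1, t} := Finset.disjoint_left.2 fun x hx hx' => by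
      rcases Finset.mem_insert.1 hx' with rfl | hx'
      · rcases Finset.mem_union.1 hx with h' | h'
        · exact (Finset.mem_filter.1 h').2.1.1 rfl
        · exact (Finset.mem_filter.1 h').2.1.1 rfl
      · rw [Finset.mem_singleton] at hx'
        subst hx'
        rcases Finset.mem_union.1 hx with h' | h'
        · exact (Finset.mem_filter.1 h').2.2.1 ht.2
        · exact (Finset.mem_filter.1 h').2.1.2.1 ht
    have hcard : ((A ∪ B) ∪ {1, t}).card ≤ Nat.card (cen t) := by
      rw [← Nat.card_eq_finsetCard]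
      refine Nat.card_le_card_of_injective (fun x => ⟨x.1, ?_⟩) fun a b e =>
        Subtype.ext (congrArg Subtype.val e :)
      rw [mem_cen]
      rcases Finset.mem_union.1 x.2 with h' | h'
      · rcases Finset.mem_union.1 h' with h' | h'
        · obtain ⟨-, h1, h2⟩ := Finset.mem_filter.1 h'
          have := inverts_of_inv h1 h2
          rw [ht.inv_eq] at this
          exact mul_inv_eq_iff_eq_mul.1 this
        · exact (Finset.mem_filter.1 h').2.2.symm
      · rcases Finset.mem_insert.1 h' with h' | h'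
        · rw [h', one_mul, mul_one]
        · rw [Finset.mem_singleton.1 h']
    rw [Finset.card_union_of_disjoint h1t, Finset.card_union_of_disjoint hAB,
      Finset.card_pair (Ne.symm ht.1)] at hcard
    rw [hA]
    exact hcard
  -- the pointwise bound
  have hpt : ∀ x : X, nInv x + J1 x * nc x + 2 * J1 x + W1 x * (d - nInv x) ≤
      (if x = 1 then mm X else 0) + E1 * (if Nat.card (cen x) = q then 1 else 0) +
        w * (if Nat.card (cen x) = w then 1 else 0) + d * W1 x + 2 * d * J1 x := by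
    intro x
    by_cases hx : x = 1
    · subst hx
      have h1 : nInv (1 : X) = mm X := Nat.card_congr (Equiv.subtypeEquivRight fun s => by simp)
      have h2 : ¬ IsInv (1 : X) := fun h' => h'.1 rfl
      have h3 : ¬ InW d (1 : X) := fun h' => h'.1 rfl
      simp [J1, W1, h1, h2, h3, -Nat.card_eq_fintype_card]
      exact le_trans (Nat.le_add_right _ _) (Nat.le_add_right _ _)
    by_cases hi : IsInv x
    · have := hI x hi
      have hW : ¬ InW d x := fun h' => h'.2.1 hi
      simp only [J1, W1, if_pos hi, if_neg hW, if_neg hx]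
      omega
    rcases h.cent x hx with e | e | e | e
    · have hW : ¬ InW d x := fun h' => by rcases h'.2.2 with e' | e' <;> omega
      simp only [J1, W1, if_neg hi, if_neg hW, if_neg hx, if_pos e, if_neg (show ¬ Nat.card (cen x) = w by omega)]
      rcases h.par.cases with ⟨h1, -⟩ | ⟨h1, -⟩
      · have := nInv_le x
        simp only [E1, if_pos h1]
        omega
      · rw [nInv_eq_zero_q h h1 e]
        omega
    · have hW : InW d x := ⟨hx, hi, Or.inl e⟩
      have := hnW x hW
      simp only [J1, W1, if_neg hi, if_pos hW, if_neg hx]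
      omega
    · have hW : InW d x := ⟨hx, hi, Or.inr e⟩
      have := hnW x hW
      simp only [J1, W1, if_neg hi, if_pos hW, if_neg hx]
      omega
    · have hW : ¬ InW d x := fun h' => by
        rw [Nat.odd_iff] at hw
        rcases h'.2.2 with e' | e' <;> omega
      have := nInv_le x
      simp only [J1, W1, if_neg hi, if_neg hW, if_neg hx, if_pos e, if_neg (show ¬ Nat.card (cen x) = q by omega)]
      omega
  have hsum := Finset.sum_le_sum fun x (_ : x ∈ (Finset.univ : Finset X)) => hpt x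
  simp only [Finset.sum_add_distrib, ← Finset.mul_sum, sum_nInv, hswap, ← Finset.card_filter,
    hcq, hcw, Finset.sum_ite_eq', Finset.mem_univ, if_true, hmm] at hsum
  have hNC : ∑ x, W1 x * ni x = ∑ x, W1 x + ∑ x, W1 x * (ni x - 1) := by
    rw [← Finset.sum_add_distrib]
    refine Finset.sum_congr rfl fun x _ => ?_
    simp only [W1]
    by_cases hW : InW d x
    · have := hni x hW
      simp only [if_pos hW, one_mul]
      omega
    · simp [if_neg hW]
  rw [hNC] at hsum
  rw [hmm] at hWI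
  set I := mm X
  set S := ∑ x, W1 x
  set D₁ := ∑ x, W1 x * (d - nInv x)
  set D₂ := ∑ x, W1 x * (ni x - 1)
  have hIge : q * w ≤ I := (hclass t₀ ht₀).1.trans (hclass t₀ ht₀).2
  have hfinal : I = q * w ∧ D₁ = 0 ∧ D₂ = 0 := by
    have hkey : ((I : ℤ) - q * w) * ((I : ℤ) + q * w - d) + (D₁ + D₂ : ℕ) ≤ 0 := by
      have hs : ((I : ℤ) * I + (S + D₂) + 2 * I + D₁) ≤
          I + E1 * (4 * d * w) + w * (a * (2 * d * q)) + d * S + 2 * d * I := by exact_mod_cast hsum
      have hS : (S : ℤ) + I + q * w = d * (q * w) := by exact_mod_cast hWI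
      have hSe : (S : ℤ) = d * (q * w) - q * w - I := by linarith
      rw [hSe] at hs
      push_cast
      rcases h.par.cases with ⟨h1, h2⟩ | ⟨h1, h2⟩
      · have hE : (E1 : ℤ) = q := by simp only [E1, if_pos h1]
        have ha : 2 * (a : ℤ) = d := by exact_mod_cast hplus h1
        have hqz : (q : ℤ) = 2 * d + 1 := by exact_mod_cast h1
        have hwz : (w : ℤ) = d + 1 := by exact_mod_cast h2
        rw [hE, show (w : ℤ) * (a * (2 * d * q)) = (2 * a) * (d * q * w) by ring, ha] at hs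
        rw [hqz, hwz] at hs ⊢
        linarith [hs]
      · have hE : (E1 : ℤ) = 0 := by simp only [E1]; rw [if_neg (by omega)]; rfl
        have ha : 2 * (a : ℤ) = d - 2 := by
          have : ((2 * a + 2 : ℕ) : ℤ) = d := by exact_mod_cast hminus h1
          push_cast at this; linarith
        have hqz : (q : ℤ) = 2 * d - 1 := by have : ((q : ℤ) + 1) = 2 * d := by exact_mod_cast h1
                                             linarith
        have hwz : (w : ℤ) = d - 1 := by have : ((w : ℤ) + 1) = d := by exact_mod_cast h2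
                                         linarith
        rw [hE, show (w : ℤ) * (a * (2 * d * q)) = (2 * a) * (d * q * w) by ring, ha] at hs
        rw [hqz, hwz] at hs ⊢
        linarith [hs]
    have h1 : (0 : ℤ) ≤ (I : ℤ) - q * w := by
      have : ((q * w : ℕ) : ℤ) ≤ I := by exact_mod_cast hIge
      push_cast at this; linarith
    have h2 : (0 : ℤ) < (I : ℤ) + q * w - d := by
      have : d < q * w := by
        rcases h.par.cases with ⟨h1, h2⟩ | ⟨h1, h2⟩ <;> nlinarith
      have : ((d : ℤ)) < q * w := by exact_mod_cast this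
      linarith
    have h3 : (0 : ℤ) ≤ ((D₁ + D₂ : ℕ) : ℤ) := Int.natCast_nonneg _
    have h4 : ((I : ℤ) - q * w) * ((I : ℤ) + q * w - d) = 0 := by
      nlinarith [mul_nonneg h1 h2.le]
    have h5 : (I : ℤ) - q * w = 0 := (mul_eq_zero.1 h4).resolve_right h2.ne'
    have h6 : ((D₁ + D₂ : ℕ) : ℤ) = 0 := by linarith
    refine ⟨by exact_mod_cast (sub_eq_zero.1 h5), ?_, ?_⟩ <;>
    · have : D₁ + D₂ = 0 := by exact_mod_cast h6
      omega
  obtain ⟨hIeq, hD₁, hD₂⟩ := hfinal
  have hcls : ∀ t : X, IsInv t → Nat.card {x : X // IsConj t x} = q * w := fun t ht =>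
    le_antisymm (hIeq ▸ (hclass t ht).2) (hclass t ht).1
  have hct : ∀ t : X, IsInv t → Nat.card (cen t) = 2 * d := by
    intro t ht
    have e := CfsgLib.Char.card_isConj_mul_card_centralizer t
    rw [hcls t ht, h.card, show 2 * d * q * w = q * w * (2 * d) by ring] at e
    exact Nat.eq_of_mul_eq_mul_left (Nat.mul_pos (by omega) (by omega)) e
  refine ⟨hct, fun x y hx hy => ?_, ?_, fun x hx => ?_⟩
  · have hbij : Function.Bijective (fun z : {z : X // IsConj x z} => (⟨z.1, by
        obtain ⟨g, hg⟩ := isConj_iff.1 z.2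
        rw [← hg]; exact hx.conj g⟩ : {u : X // IsInv u})) :=
      (Nat.bijective_iff_injective_and_card _).2
        ⟨fun a b e => Subtype.ext (congrArg Subtype.val e :), by rw [hcls x hx]; exact hIeq.symm⟩
    obtain ⟨z, hz⟩ := hbij.2 ⟨y, hy⟩
    rw [← show z.1 = y from congrArg Subtype.val hz]
    exact z.2
  · by_contra hne
    push Not at hne
    have : S = 0 := Finset.sum_eq_zero fun x _ => if_neg (hne x)
    rw [this, hIeq, zero_add] at hWI
    have h2 : 2 * (q * w) < d * (q * w) :=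
      Nat.mul_lt_mul_of_pos_right (by omega) (Nat.mul_pos (by omega) (by omega))
    omega
  · have e1 := (Finset.sum_eq_zero_iff.1 hD₁) x (Finset.mem_univ x)
    have e2 := (Finset.sum_eq_zero_iff.1 hD₂) x (Finset.mem_univ x)
    simp only [W1, if_pos hx, one_mul] at e1 e2
    have hf : nInv x = d := by have := hnW x hx; omega
    refine ⟨hf, hx.2.2.resolve_left fun e => ?_, ?_⟩
    · rw [nInv_eq_zero h e fun e' => hx.2.1 ⟨hx.1, e'⟩] at hf
      omega
    · rw [Nat.card_eq_fintype_card, Fintype.card_subtype]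
      have := hni x hx
      simp only [ni] at this e2
      omega

/-- The Brauer-Suzuki-Wall configuration. -/
theorem exists_hyp (h : OddCent X q d w) :
    ∃ (t : X) (K : Subgroup X) (s : X), Hyp t K s ∧ Nat.card K = d ∧
      ∀ k ∈ K, k ≠ 1 → k ≠ t → Nat.card (cen k) = d := by
  obtain ⟨hct, hconj, ⟨x₀, hx₀⟩, hW⟩ := tight h
  obtain ⟨hf, hcard, hone⟩ := hW x₀ hx₀
  have hd4 := h.par.four_le
  obtain ⟨hsub, ⟨⟨t, ht, htx⟩⟩⟩ := Nat.card_eq_one_iff_unique.1 hone
  set K := cen x₀ with hK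
  have htK : t ∈ K := mem_cen.2 htx
  obtain ⟨s, hs⟩ : ∃ s, IsInv s ∧ IsInv (s * x₀) := by
    by_contra hne
    have : nInv x₀ = 0 := Nat.card_eq_zero.2 (Or.inl ⟨fun z => hne ⟨z.1, z.2⟩⟩)
    omega
  -- every element of `s K` is an involution inverting `x₀`
  have hall : ∀ k ∈ K, IsInv (s * k) := by
    let f : {u : X // IsInv u ∧ IsInv (u * x₀)} → K := fun u => ⟨s * u.1, by
      rw [hK, mem_cen]
      have h1 := inverts_of_inv hs.1 hs.2
      have h2 := inverts_of_inv u.2.1 u.2.2
      calc s * u.1 * x₀ = s * (u.1 * x₀ * u.1⁻¹) * u.1 := by group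
        _ = (s * x₀ * s⁻¹)⁻¹ * s * u.1 := by rw [h2]; group
        _ = _ := by rw [h1, inv_inv, mul_assoc]⟩
    have hinj : Function.Injective f := fun a b e =>
      Subtype.ext (mul_left_cancel (congrArg Subtype.val e :))
    have hbij : Function.Bijective f :=
      (Nat.bijective_iff_injective_and_card f).2 ⟨hinj, hf.trans hcard.symm⟩
    intro k hk
    obtain ⟨u, hu⟩ := hbij.2 ⟨k, hk⟩
    have e : s * u.1 = k := congrArg Subtype.val hu
    rw [← e, ← mul_assoc, hs.1.2, one_mul]
    exact u.2.1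
  have hinvk : ∀ k ∈ K, s * k * s⁻¹ = k⁻¹ := fun k hk => inverts_of_inv hs.1 (hall k hk)
  have hcomm : ∀ a ∈ K, ∀ b ∈ K, a * b = b * a := by
    intro a ha b hb
    have e := hinvk _ (K.mul_mem ha hb)
    have e2 : s * (a * b) * s⁻¹ = a⁻¹ * b⁻¹ := by rw [← hinvk a ha, ← hinvk b hb]; group
    rw [e2, ← mul_inv_rev, inv_inj] at e
    exact e.symm
  have hle : K ≤ cen t := fun k hk => mem_cen.2 (hcomm k hk t htK)
  have hst : s ∈ cen t := by
    have := hinvk t htK
    rw [ht.inv_eq] at this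
    exact mem_cen.2 (mul_inv_eq_iff_eq_mul.1 this)
  have hsK : s ∉ K := fun hm => by
    have e := inverts_of_inv hs.1 hs.2
    rw [hK, mem_cen] at hm
    rw [hm, mul_inv_cancel_right] at e
    exact hx₀.2.1 ⟨hx₀.1, mul_eq_one_iff_eq_inv.2 e⟩
  have huniq : ∀ k ∈ K, IsInv k → k = t := fun k hk hki =>
    congrArg Subtype.val (hsub.elim ⟨k, hki, mem_cen.1 hk⟩ ⟨t, ht, htx⟩)
  have hKk : ∀ k ∈ K, k ≠ 1 → k ≠ t → cen k = K ∧ Nat.card (cen k) = d := by
    intro k hk hk1 hkt
    have hkW : InW d k := ⟨hk1, fun hi => hkt (huniq k hk hi),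
      cen_cases_even h hk1 ht (hcomm t htK k hk)⟩
    obtain ⟨-, hkc, -⟩ := hW k hkW
    exact ⟨(Subgroup.eq_of_le_of_card_ge (fun a ha => mem_cen.2 (hcomm a ha k hk))
      (by rw [hkc, hcard])).symm, hkc⟩
  refine ⟨t, K, s, ⟨ht, hs.1, hcomm, hle, htK, hst, hsK, ?_, ?_, hinvk, ?_, hconj⟩, hcard,
    fun k hk h1 h2 => (hKk k hk h1 h2).2⟩
  · refine Subgroup.eq_of_le_of_card_ge (sup_le hle (Subgroup.zpowers_le.2 hst)) ?_
    obtain ⟨l, hl⟩ := Subgroup.card_dvd_of_le (le_sup_left : K ≤ K ⊔ Subgroup.zpowers s)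
    rw [hct t ht, hl, hcard]
    rcases Nat.lt_or_ge l 2 with hl2 | hl2
    · exfalso
      have hl1 : l = 1 := by
        have : 0 < Nat.card ↥(K ⊔ Subgroup.zpowers s) := Nat.card_pos
        rcases Nat.eq_zero_or_pos l with rfl | hl0
        · rw [hl, mul_zero] at this; exact absurd this (lt_irrefl _)
        · omega
      rw [hl1, mul_one] at hl
      exact hsK ((Subgroup.eq_of_le_of_card_ge le_sup_left hl.le).ge
        (Subgroup.mem_sup_right (Subgroup.mem_zpowers s)))
    · rw [mul_comm 2 d]; exact Nat.mul_le_mul_left d hl2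
  · refine le_antisymm (fun k hk => ?_) (Subgroup.zpowers_le.2 ⟨htK, ?_⟩)
    · obtain ⟨hkK, hks⟩ := hk
      have e := hinvk k hkK
      rw [← mem_cen.1 hks, mul_inv_cancel_right] at e
      by_cases hk1 : k = 1
      · exact hk1 ▸ one_mem _
      rw [huniq k hkK ⟨hk1, mul_eq_one_iff_eq_inv.2 e⟩]
      exact Subgroup.mem_zpowers t
    · exact mem_cen.2 (mem_cen.1 hst).symm
  · intro g hg k hk hgk
    by_contra hk1
    apply hg
    by_cases hkt : k = t
    · subst hkt
      exact mem_cen.2 (mul_inv_eq_iff_eq_mul.1 (huniq _ hgk (ht.conj g)))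
    have hgk1 : g * k * g⁻¹ ≠ 1 := fun e => hk1 (conj_eq_one_iff.1 e)
    have hgkt : g * k * g⁻¹ ≠ t := fun e => by
      have hki : IsInv k := by
        have h1 := ht.conj g⁻¹
        rwa [← e, show g⁻¹ * (g * k * g⁻¹) * g⁻¹⁻¹ = k by group] at h1
      exact hkt (huniq k hk hki)
    have h1 := (hKk k hk hk1 hkt).1
    have h2 := (hKk _ hgk hgk1 hgkt).1
    have h3 : g * t * g⁻¹ ∈ K := by
      rw [← h2, mem_cen]
      calc g * t * g⁻¹ * (g * k * g⁻¹) = g * (t * k) * g⁻¹ := by group
        _ = g * (k * t) * g⁻¹ := by rw [hcomm t htK k hk]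
        _ = _ := by group
    exact mem_cen.2 (mul_inv_eq_iff_eq_mul.1 (huniq _ h3 (ht.conj g)))

end CfsgLib.Recognition.PSL2Sizes
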