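import Cfsg.Agent.Lib.Classical.Dickson.Borel
import Cfsg.Agent.Lib.Classical.SL2OddSylow

/-!
The prime power subgroups of `PSL(2, q)` other than the `2`-subgroups for odd `q` are commutative.
-/

set_option autoImplicit false

namespace CfsgLib.Recognition.PSL2Sizes

open Matrix CfsgLib.Classical.Dickson CfsgLib.Transfer Projectivization
open scoped MatrixGroups LinearAlgebra.Projectivization

variable {F : Type*} [Field F] [Fintype F]

local notation "G2" => ProjectiveSpecialLinearGroup (Fin 2) F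
local notation "T2" => Matrix.ProjectiveSpecialLinearGroup.toPGL (n := Fin 2) (R := F)

theorem psl_pgroup_char_comm (p : ℕ) [Fact p.Prime] [CharP F p] {H : Subgroup G2} (hH : IsPGroup p H) :
    ∀ a ∈ H, ∀ b ∈ H, a * b = b * a := by
  obtain ⟨P, hP⟩ := hH.exists_le_sylow
  obtain ⟨y, hN, hmem⟩ := sylow_point p P
  obtain ⟨h, hh⟩ := exists_to_inf y
  have key : ∀ g ∈ P, ∃ d : F, h * T2 g * h⁻¹ = aff 1 d := by
    intro g hg
    rcases (hmem g).1 hg with rfl | hfix
    · exact ⟨0, by rw [map_one, aff_one, mul_one, mul_inv_cancel]⟩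
    have hy : T2 g • y = y := (hN g).1 (Subgroup.le_normalizer hg)
    obtain ⟨c, d, e⟩ := exists_aff_of_fix_inf (g := h * T2 g * h⁻¹)
      (by rw [mul_smul, mul_smul, inv_smul_eq_iff.2 hh.symm, hy, hh])
    by_cases hc : c = 1
    · exact ⟨d, hc ▸ e⟩
    exfalso
    have h1 : fixSet (h * T2 g * h⁻¹) = {lineInf} := by
      rw [fixSet_conj, hfix, Set.image_singleton, hh]
    rw [e, fixSet_aff_of_ne hc] at h1
    have h2 : linePt (d / (1 - c)) ∈ ({lineInf} : Set (ℙ F (Fin 2 → F))) :=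
      h1 ▸ Or.inr rfl
    exact lineInf_ne_linePt _ (Set.mem_singleton_iff.1 h2).symm
  intro a ha b hb
  obtain ⟨d, e1⟩ := key a (hP ha)
  obtain ⟨d', e2⟩ := key b (hP hb)
  refine Matrix.ProjectiveSpecialLinearGroup.toPGL_injective ?_
  rw [map_mul, map_mul]
  refine mul_left_cancel (a := h) (mul_right_cancel (b := h⁻¹) ?_)
  have e3 : aff (1 : Fˣ) d * aff 1 d' = aff 1 d' * aff 1 d := by
    rw [aff_mul, aff_mul]; congr 1; simp [add_comm]
  calc h * (T2 a * T2 b) * h⁻¹ = (h * T2 a * h⁻¹) * (h * T2 b * h⁻¹) := by group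
    _ = (h * T2 b * h⁻¹) * (h * T2 a * h⁻¹) := by rw [e1, e2, e3]
    _ = _ := by group

theorem psl_pgroup_odd_comm (p r : ℕ) [Fact p.Prime] [CharP F p] [Fact r.Prime] (hr : r ≠ 2) (hrp : r ≠ p)
    {H : Subgroup G2} (hH : IsPGroup r H) :
    ∀ a ∈ H, ∀ b ∈ H, a * b = b * a := by
  set f := QuotientGroup.mk' (Subgroup.center (SpecialLinearGroup (Fin 2) F))
  have hf : Function.Surjective f := QuotientGroup.mk'_surjective _
  obtain ⟨S⟩ : Nonempty (Sylow r (SpecialLinearGroup (Fin 2) F)) := inferInstance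
  haveI := CfsgLib.Classical.sylow_odd_cyclic_SL_two p r hr hrp S
  obtain ⟨R, hR⟩ := hH.exists_le_sylow
  obtain ⟨g, hg⟩ := MulAction.exists_smul_eq G2 (S.mapSurjective hf) R
  intro a ha b hb
  have hmem : ∀ x ∈ H, ∃ u ∈ (S : Subgroup (SpecialLinearGroup (Fin 2) F)), g * f u * g⁻¹ = x := by
    intro x hx
    have h1 : x ∈ ((g • S.mapSurjective hf : Sylow r G2) : Subgroup G2) := hg ▸ hR hx
    rw [Sylow.coe_subgroup_smul] at h1
    obtain ⟨y, hy, rfl⟩ := h1
    obtain ⟨u, hu, rfl⟩ := hy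
    exact ⟨u, hu, rfl⟩
  obtain ⟨u, hu, rfl⟩ := hmem a ha
  obtain ⟨v, hv, rfl⟩ := hmem b hb
  letI : CommGroup (S : Subgroup (SpecialLinearGroup (Fin 2) F)) := IsCyclic.commGroup
  have huv : u * v = v * u := congrArg Subtype.val (mul_comm (⟨u, hu⟩ : (S : Subgroup _)) ⟨v, hv⟩)
  calc g * f u * g⁻¹ * (g * f v * g⁻¹) = g * f (u * v) * g⁻¹ := by rw [map_mul]; group
    _ = g * f (v * u) * g⁻¹ := by rw [huv]
    _ = _ := by rw [map_mul]; group

end CfsgLib.Recognition.PSL2Sizes
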