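import Cfsg.Agent.Lib.Recognition.PSL2Sizes.CentralQuotient
import Cfsg.Agent.Lib.Recognition.PSL2Sizes.OddRecognise
import Cfsg.Agent.Lib.Recognition.PSL2Sizes.EvenRecognise
import Cfsg.Agent.S2507
import Cfsg.Agent.S2508

/-!
Groups with the class sizes of `PSL(2, q)`: the centraliser orders of the central quotient.
-/

set_option autoImplicit false

namespace CfsgLib.Recognition.PSL2Sizes

open Subgroup CfsgLib.InvolChar.BSW

/-- The class sizes of `PSL(2, q)`, `q` odd. -/
structure OddSizes (G : Type*) [Group G] (q d w : ℕ) : Prop where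
  par : Par q d w
  pow : ∃ p n : ℕ, p.Prime ∧ q = p ^ n
  mem : ∀ x : G, x ∉ center G →
    sz x = 2 * d * w ∨ sz x = q * w ∨ sz x = 2 * (q * w) ∨ sz x = 2 * d * q
  exA : ∃ x : G, sz x = 2 * d * w
  exB : ∃ x : G, sz x = q * w
  exC : ∃ x : G, sz x = 2 * d * q

/-- The class sizes of `PSL(2, q)`, `q` even. -/
structure EvenSizes (G : Type*) [Group G] (q : ℕ) : Prop where
  pow : ∃ n : ℕ, q = 2 ^ n
  four_le : 4 ≤ q
  mem : ∀ x : G, x ∉ center G →
    sz x = (q - 1) * (q + 1) ∨ sz x = q * (q - 1) ∨ sz x = q * (q + 1)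
  exQ : ∃ x : G, sz x = (q - 1) * (q + 1)
  exU : ∃ x : G, sz x = q * (q + 1)
  exV : ∃ x : G, sz x = q * (q - 1)

variable {G : Type*} [Group G] [Finite G] {q d w : ℕ}

omit [Finite G] in
theorem not_center_of_sz {x : G} {n : ℕ} (h : sz x = n) (hn : 1 < n) : x ∉ center G := fun hx => by
  rw [sz_eq_one_iff.2 hx] at h; omega

omit [Finite G] in
theorem mk_ne_one_iff {x : G} : ((x : G ⧸ center G) ≠ 1) ↔ x ∉ center G :=
  (QuotientGroup.eq_one_iff x).not

omit [Finite G] in
theorem dvd_of_sz (x : G) : sz x ∣ (center G).index := Dvd.intro_left _ (mz_mul_sz x)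

namespace OddSizes

variable (h : OddSizes G q d w)
include h

omit [Finite G] in
/-- The elementary arithmetic of the sizes. -/
theorem arith : 0 < q ∧ 1 < w ∧ 2 ≤ d ∧ Nat.Coprime q (2 * d * w) ∧ Nat.Coprime (2 * d) w ∧
    Nat.Coprime q 2 ∧ Nat.Coprime w 2 ∧ Nat.Coprime q w ∧ Nat.Coprime q (2 * d) := by
  obtain ⟨hq, hw, hw3, hq7, -⟩ := h.par.odd_qw
  obtain ⟨h1, h2⟩ := h.par.coprime
  refine ⟨by omega, by omega, by have := h.par.four_le; omega, h1, h2,
    Nat.coprime_two_right.2 hq, Nat.coprime_two_right.2 hw, h1.coprime_mul_left_right,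
    h1.coprime_mul_right_right⟩

theorem rigidA : Rigid G (2 * d * w) := by
  obtain ⟨hq0, hw1, hd, h1, h2, hq2, hw2, hqw, hqd⟩ := h.arith
  have hne : ∀ {a : ℕ}, q ∣ a → Nat.Coprime q a → False := fun {a} e c => by
    obtain ⟨-, -, -, hq7, -⟩ := h.par.odd_qw
    have := Nat.eq_one_of_dvd_coprimes c dvd_rfl e
    omega
  refine rigid_of_dvd fun x hx => ⟨fun e => ?_, fun e => ?_⟩ <;>
    rcases h.mem x hx with e' | e' | e' | e' <;> rw [e'] at e
  · exact e'
  · exfalso
    have : 2 ∣ q * w := (Dvd.intro (d * w) (by ring)).trans e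
    exact absurd this (Nat.two_dvd_ne_zero.2 (Nat.odd_iff.1 (h.par.odd_qw.1.mul h.par.odd_qw.2.1)))
  · exfalso
    have h3 : d ∣ q * w :=
      Nat.dvd_of_mul_dvd_mul_left two_pos ((Dvd.intro w (by ring)).trans e)
    have h4 : 2 ∣ q * w := h.par.even_d.two_dvd.trans h3
    exact absurd h4 (Nat.two_dvd_ne_zero.2 (Nat.odd_iff.1 (h.par.odd_qw.1.mul h.par.odd_qw.2.1)))
  · exfalso
    have h3 : w ∣ q * (2 * d) := by rw [mul_comm]; exact (Dvd.intro_left _ rfl).trans e
    have := Nat.eq_one_of_dvd_coprimes (hqw.symm.mul_right h2.symm) dvd_rfl h3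
    omega
  · exact e'
  · exact (hne ((Dvd.intro w rfl).trans e) h1).elim
  · exact (hne ((Dvd.intro (2 * w) (by ring)).trans e) h1).elim
  · exact (hne ((Dvd.intro (2 * d) (by ring)).trans e) h1).elim

theorem rigidC : Rigid G (2 * d * q) := by
  obtain ⟨hq0, hw1, hd, h1, h2, hq2, hw2, hqw, hqd⟩ := h.arith
  refine rigid_of_dvd fun x hx => ⟨fun e => ?_, fun e => ?_⟩ <;>
    rcases h.mem x hx with e' | e' | e' | e' <;> rw [e'] at e
  · exfalso
    have := Nat.eq_one_of_dvd_coprimes h1 dvd_rfl ((Dvd.intro_left _ rfl).trans e)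
    have := h.par.odd_qw.2.2.2.1
    omega
  · exfalso
    have : 2 ∣ q * w := (Dvd.intro (d * q) (by ring)).trans e
    exact absurd this (Nat.two_dvd_ne_zero.2 (Nat.odd_iff.1 (h.par.odd_qw.1.mul h.par.odd_qw.2.1)))
  · exfalso
    have h3 : d ∣ q * w :=
      Nat.dvd_of_mul_dvd_mul_left two_pos ((Dvd.intro q (by ring)).trans e)
    have h4 : 2 ∣ q * w := h.par.even_d.two_dvd.trans h3
    exact absurd h4 (Nat.two_dvd_ne_zero.2 (Nat.odd_iff.1 (h.par.odd_qw.1.mul h.par.odd_qw.2.1)))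
  · exact e'
  · exfalso
    have := Nat.eq_one_of_dvd_coprimes (hqw.symm.mul_right h2.symm) dvd_rfl
      (show w ∣ q * (2 * d) by rw [mul_comm q]; exact (Dvd.intro_left _ rfl).trans e)
    omega
  · exfalso
    have := Nat.eq_one_of_dvd_coprimes (hqw.symm.mul_right h2.symm) dvd_rfl
      (show w ∣ q * (2 * d) by rw [mul_comm q]; exact (Dvd.intro_left _ rfl).trans e)
    omega
  · exfalso
    have := Nat.eq_one_of_dvd_coprimes (hqw.symm.mul_right h2.symm) dvd_rfl
      (show w ∣ q * (2 * d) by rw [mul_comm q]; exact (Dvd.intro (2 * q) (by ring)).trans e)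
    omega
  · exact e'

theorem ratio : Ratio G 2 := by
  intro x y hx hy hle
  rcases h.mem y hy with e | e | e | e
  · exact Or.inl (congrArg sz rfl |>.trans (by
      rw [sz, sz, h.rigidA x y hx hy (Or.inr e) hle]))
  · have hd := sz_dvd_of_le hle
    rw [e] at hd
    rcases h.mem x hx with e' | e' | e' | e'
    · exact Or.inl (by rw [sz, sz, h.rigidA x y hx hy (Or.inl e') hle])
    · exact Or.inl (e'.trans e.symm)
    · exact Or.inr (by rw [e', e])
    · exact Or.inl (by rw [sz, sz, h.rigidC x y hx hy (Or.inl e') hle])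
  · have hd := sz_dvd_of_le hle
    rw [e] at hd
    rcases h.mem x hx with e' | e' | e' | e'
    · exact Or.inl (by rw [sz, sz, h.rigidA x y hx hy (Or.inl e') hle])
    · exfalso
      have : 2 ∣ q * w := (Dvd.intro (q * w) rfl).trans (e' ▸ hd)
      exact absurd this (Nat.two_dvd_ne_zero.2 (Nat.odd_iff.1 (h.par.odd_qw.1.mul h.par.odd_qw.2.1)))
    · exact Or.inl (e'.trans e.symm)
    · exact Or.inl (by rw [sz, sz, h.rigidC x y hx hy (Or.inl e') hle])
  · exact Or.inl (by rw [sz, sz, h.rigidC x y hx hy (Or.inr e) hle])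

theorem index_eq : (center G).index = 2 * d * q * w := by
  obtain ⟨hq0, hw1, hd, h1, h2, hq2, hw2, hqw, hqd⟩ := h.arith
  obtain ⟨a, ha⟩ := h.exA
  obtain ⟨b, hb⟩ := h.exB
  obtain ⟨c, hc⟩ := h.exC
  have hac : a ∉ center G := not_center_of_sz ha (by nlinarith)
  have hbc : b ∉ center G := not_center_of_sz hb (by nlinarith)
  have hcc : c ∉ center G := not_center_of_sz hc (by nlinarith)
  refine index_center_eq (L := 2 * d * q * w) (δ := 2)
    (mul_pos (mul_pos (by omega) hq0) (by omega)).ne'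
    (fun p hp hd2 => by
      have := Nat.le_of_dvd two_pos hd2
      nlinarith [hp.two_le])
    h.ratio (fun x => ?_) ?_ fun p hp hpL => ?_
  · by_cases hx : x ∈ center G
    · rw [sz_eq_one_iff.2 hx]; exact one_dvd _
    rcases h.mem x hx with e | e | e | e <;> rw [e]
    exacts [Dvd.intro q (by ring), Dvd.intro (2 * d) (by ring), Dvd.intro d (by ring),
      Dvd.intro w rfl]
  · rw [show 2 * d * q * w = q * (2 * d * w) by ring]
    exact h1.mul_dvd_of_dvd_of_dvd ((Dvd.intro w hb.symm).trans (dvd_of_sz b))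
      (ha ▸ dvd_of_sz a)
  · have hp2 : ¬ p ^ 2 ∣ 2 := fun hh => by
      have := Nat.le_of_dvd two_pos hh; nlinarith [hp.two_le]
    have hncop : ∀ {m n : ℕ}, Nat.Coprime m n → p ∣ m → ¬ p ∣ n := fun c e e' =>
      hp.ne_one (Nat.eq_one_of_dvd_coprimes c e e')
    have hq7 := h.par.odd_qw.2.2.2.1
    rcases hp.dvd_mul.1 hpL with h3 | h3
    rcases hp.dvd_mul.1 h3 with h4 | h4
    · refine ⟨b, a, q, hbc, hac, ?_, ?_, ha ▸ h.rigidA, ?_, by omega, hncop hqd.symm h4, ?_⟩
      · rw [hb]; exact hncop (hqd.symm.mul_right h2) h4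
      · rw [ha]; exact h4.mul_right w
      · by_cases h5 : p = 2
        · right; subst h5
          rw [ha]
          exact Dvd.dvd.mul_right (mul_dvd_mul_left 2 h.par.even_d.two_dvd) w
        · left; exact fun hh => h5 ((Nat.prime_dvd_prime_iff_eq hp Nat.prime_two).1 hh)
      · rw [ha]; exact Dvd.intro 1 (by ring)
    · refine ⟨a, c, w, hac, hcc, ?_, ?_, hc ▸ h.rigidC, Or.inl (hncop hq2 h4), by omega,
        hncop hqw h4, ?_⟩
      · rw [ha]; exact hncop h1 h4
      · rw [hc]; exact h4.mul_left _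
      · rw [hc]
    · refine ⟨c, a, q, hcc, hac, ?_, ?_, ha ▸ h.rigidA, Or.inl (hncop hw2 h3), by omega,
        hncop hqw.symm h3, ?_⟩
      · rw [hc]; exact hncop (h2.symm.mul_right hqw.symm) h3
      · rw [ha]; exact h3.mul_left _
      · rw [ha]; exact Dvd.intro 1 (by ring)

theorem oddCent : OddCent (G ⧸ center G) q d w := by
  obtain ⟨hq0, hw1, hd, h1, h2, hq2, hw2, hqw, hqd⟩ := h.arith
  refine ⟨h.par, by rw [← index_eq_card, h.index_eq], h.pow, fun x hx => ?_⟩
  obtain ⟨g, rfl⟩ := QuotientGroup.mk_surjective x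
  rw [mk_ne_one_iff] at hx
  obtain ⟨k, hk, hks, hkp⟩ := card_centralizer_mk g
  have hN := mz_mul_sz g
  rw [h.index_eq] at hN
  rw [show Nat.card (cen (g : G ⧸ center G)) = mz g * k from hk]
  have key : ∀ m, mz g = m → Nat.Coprime m (sz g) → mz g * k = m := fun m hm hc => by
    have hk1 : k = 1 := by
      by_contra hne
      obtain ⟨l, hl, hlk⟩ := Nat.exists_prime_and_dvd hne
      exact hl.ne_one (Nat.eq_one_of_dvd_coprimes hc (hm ▸ hkp l hl hlk) (hlk.trans hks))
    rw [hk1, mul_one, hm]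
  rcases h.mem g hx with e | e | e | e
  · left
    refine key q (Nat.eq_of_mul_eq_mul_right (show 0 < 2 * d * w by positivity) ?_) (e ▸ h1)
    rw [e] at hN; rw [hN]; ring
  · right; left
    refine key _ (Nat.eq_of_mul_eq_mul_right (show 0 < q * w by positivity) ?_) (e ▸ hqd.symm.mul_right h2)
    rw [e] at hN; rw [hN]; ring
  · have hm : mz g = d := by
      refine Nat.eq_of_mul_eq_mul_right (show 0 < 2 * (q * w) by positivity) ?_
      rw [e] at hN; rw [hN]; ring
    rw [e] at hks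
    have hk2 : k ∣ 2 := by
      refine (Nat.coprime_of_dvd fun l hl hlk hl2 => ?_).dvd_of_dvd_mul_right hks
      exact hl.ne_one (Nat.eq_one_of_dvd_coprimes (hqd.symm.mul_right h2)
        ((hm ▸ hkp l hl hlk).mul_left 2) hl2)
    rw [hm]
    rcases (Nat.dvd_prime Nat.prime_two).1 hk2 with rfl | rfl
    · right; right; left; rw [mul_one]
    · right; left; rw [mul_comm]
  · right; right; right
    refine key w (Nat.eq_of_mul_eq_mul_right (show 0 < 2 * d * q by positivity) ?_)
      (e ▸ h2.symm.mul_right hqw.symm)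
    rw [e] at hN; rw [hN]; ring

end OddSizes

namespace EvenSizes

variable (h : EvenSizes G q)
include h

omit [Finite G] in
theorem arith : 1 < q - 1 ∧ Nat.Coprime q ((q - 1) * (q + 1)) ∧ Nat.Coprime (q - 1) (q + 1) := by
  have h4 := h.four_le
  obtain ⟨n, hn⟩ := h.pow
  have hev : 2 ∣ q := hn ▸ dvd_pow_self 2 (by rintro rfl; rw [pow_zero] at hn; omega)
  refine ⟨by omega, Nat.Coprime.mul_right ?_ ?_, ?_⟩
  · exact (Nat.coprime_of_dvd fun l hl h1 h2 => hl.ne_one (Nat.dvd_one.1 (by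
      have := Nat.dvd_sub h1 h2
      rwa [show q - (q - 1) = 1 by omega] at this)))
  · exact (Nat.coprime_of_dvd fun l hl h1 h2 => hl.ne_one (Nat.dvd_one.1 (by
      have := Nat.dvd_sub h2 h1
      rwa [show q + 1 - q = 1 by omega] at this)))
  · refine Nat.coprime_of_dvd fun l hl h1 h2 => ?_
    have := Nat.dvd_sub h2 h1
    rw [show q + 1 - (q - 1) = 2 by omega] at this
    obtain rfl := (Nat.prime_dvd_prime_iff_eq hl Nat.prime_two).1 this
    omega

theorem ratio : Ratio G 1 ∧ ∀ x : G, x ∉ center G → Rigid G (sz x) := by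
  obtain ⟨hu, hq, huv⟩ := h.arith
  have hq1 := (Nat.coprime_mul_iff_right.1 hq).1
  have hq2 := (Nat.coprime_mul_iff_right.1 hq).2
  have key : ∀ x : G, x ∉ center G → ∀ y : G, y ∉ center G → sz y ∣ sz x → sz y = sz x := by
    intro x hx y hy hd
    have no : ∀ {a m : ℕ}, 1 < a → Nat.Coprime a m → a ∣ m → False := fun h1 h2 h3 =>
      h1.ne' (Nat.eq_one_of_dvd_coprimes h2 dvd_rfl h3)
    rcases h.mem x hx with e | e | e <;> rcases h.mem y hy with e' | e' | e' <;>
      rw [e, e'] at hd ⊢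
    · exact (no (by omega) hq ((Dvd.intro _ rfl).trans hd)).elim
    · exact (no (by omega) hq ((Dvd.intro _ rfl).trans hd)).elim
    · exact (no (by omega) (hq2.symm.mul_right huv.symm) ((Dvd.intro_left _ rfl).trans hd)).elim
    · exact (no (by omega) (hq2.symm.mul_right huv.symm) ((Dvd.intro_left _ rfl).trans hd)).elim
    · exact (no hu (hq1.symm.mul_right huv) ((Dvd.intro _ rfl).trans hd)).elim
    · exact (no hu (hq1.symm.mul_right huv) ((Dvd.intro_left _ rfl).trans hd)).elim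
  refine ⟨fun x y hx hy hle => Or.inl (key x hx y hy (sz_dvd_of_le hle)).symm, fun z hz => ?_⟩
  exact rigid_of_dvd fun x hx => ⟨fun e => (key x hx z hz e).symm, fun e => key z hz x hx e⟩

theorem index_eq : (center G).index = q * ((q - 1) * (q + 1)) := by
  obtain ⟨hu, hq, huv⟩ := h.arith
  have hq1 := (Nat.coprime_mul_iff_right.1 hq).1
  have hq2 := (Nat.coprime_mul_iff_right.1 hq).2
  have h4 := h.four_le
  obtain ⟨a, ha⟩ := h.exQ
  obtain ⟨b, hb⟩ := h.exU
  obtain ⟨c, hc⟩ := h.exV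
  have hac : a ∉ center G := not_center_of_sz ha (by nlinarith)
  have hbc : b ∉ center G := not_center_of_sz hb (by nlinarith)
  have hcc : c ∉ center G := not_center_of_sz hc (by nlinarith)
  refine index_center_eq (L := q * ((q - 1) * (q + 1))) (δ := 1) (by positivity)
    (fun p hp hh => by
      have := Nat.le_of_dvd one_pos hh
      nlinarith [hp.two_le]) h.ratio.1 (fun x => ?_) ?_ fun p hp hpL => ?_
  · by_cases hx : x ∈ center G
    · rw [sz_eq_one_iff.2 hx]; exact one_dvd _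
    rcases h.mem x hx with e | e | e <;> rw [e]
    exacts [Dvd.intro_left _ rfl, Dvd.intro (q + 1) (by ring), Dvd.intro (q - 1) (by ring)]
  · exact hq.mul_dvd_of_dvd_of_dvd ((Dvd.intro _ hb.symm).trans (dvd_of_sz b)) (ha ▸ dvd_of_sz a)
  · have hp1 : ¬ p ∣ 1 := fun hh => hp.ne_one (Nat.dvd_one.1 hh)
    have hncop : ∀ {m n : ℕ}, Nat.Coprime m n → p ∣ m → ¬ p ∣ n := fun c e e' =>
      hp.ne_one (Nat.eq_one_of_dvd_coprimes c e e')
    rcases hp.dvd_mul.1 hpL with h3 | h3
    · refine ⟨a, c, q + 1, hac, hcc, ?_, ?_, h.ratio.2 c hcc, Or.inl hp1, by omega, hncop hq2 h3, ?_⟩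
      · rw [ha]; exact hncop hq h3
      · rw [hc]; exact h3.mul_right _
      · rw [hc]; exact Dvd.intro 1 (by ring)
    rcases hp.dvd_mul.1 h3 with h5 | h5
    · refine ⟨b, c, q + 1, hbc, hcc, ?_, ?_, h.ratio.2 c hcc, Or.inl hp1, by omega, hncop huv h5, ?_⟩
      · rw [hb]; exact hncop (hq1.symm.mul_right huv) h5
      · rw [hc]; exact h5.mul_left _
      · rw [hc]; exact Dvd.intro 1 (by ring)
    · refine ⟨c, b, q - 1, hcc, hbc, ?_, ?_, h.ratio.2 b hbc, Or.inl hp1, by omega,
        hncop huv.symm h5, ?_⟩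
      · rw [hc]; exact hncop (hq2.symm.mul_right huv.symm) h5
      · rw [hb]; exact h5.mul_left _
      · rw [hb]; exact Dvd.intro 1 (by ring)

/-- The centraliser of an element in the central quotient is the image of its centraliser. -/
theorem card_cen_mk {g : G} (hg : g ∉ center G) :
    Nat.card (cen (g : G ⧸ center G)) = mz g ∧ Nat.Coprime (mz g) (sz g) := by
  obtain ⟨hu, hq, huv⟩ := h.arith
  have hq1 := (Nat.coprime_mul_iff_right.1 hq).1
  have hq2 := (Nat.coprime_mul_iff_right.1 hq).2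
  have h4 := h.four_le
  obtain ⟨k, hk, hks, hkp⟩ := card_centralizer_mk g
  have hN := mz_mul_sz g
  rw [h.index_eq] at hN
  have hco : Nat.Coprime (mz g) (sz g) := by
    rcases h.mem g hg with e | e | e <;> rw [e] at hN ⊢
    · rw [Nat.eq_of_mul_eq_mul_right (by positivity) (hN.trans rfl)]; exact hq
    · rw [show mz g = q + 1 from Nat.eq_of_mul_eq_mul_right (show 0 < q * (q - 1) by positivity)
        (hN.trans (by ring))]
      exact hq2.symm.mul_right huv.symm
    · rw [show mz g = q - 1 from Nat.eq_of_mul_eq_mul_right (show 0 < q * (q + 1) by positivity)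
        (hN.trans (by ring))]
      exact hq1.symm.mul_right huv
  refine ⟨?_, hco⟩
  rw [show Nat.card (cen (g : G ⧸ center G)) = mz g * k from hk]
  have hk1 : k = 1 := by
    by_contra hne
    obtain ⟨l, hl, hlk⟩ := Nat.exists_prime_and_dvd hne
    exact hl.ne_one (Nat.eq_one_of_dvd_coprimes hco (hkp l hl hlk) (hlk.trans hks))
  rw [hk1, mul_one]

theorem evenCent : EvenCent (G ⧸ center G) q := by
  refine ⟨h.pow, h.four_le, by rw [← index_eq_card, h.index_eq], fun x hx => ?_⟩
  obtain ⟨g, rfl⟩ := QuotientGroup.mk_surjective x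
  rw [mk_ne_one_iff] at hx
  obtain ⟨hu, hq, huv⟩ := h.arith
  have h4 := h.four_le
  have hN := mz_mul_sz g
  rw [h.index_eq] at hN
  rw [(h.card_cen_mk hx).1]
  rcases h.mem g hx with e | e | e <;> rw [e] at hN
  · exact Or.inl (Nat.eq_of_mul_eq_mul_right (by positivity) hN)
  · exact Or.inr (Or.inr (Nat.eq_of_mul_eq_mul_right (show 0 < q * (q - 1) by positivity)
      (hN.trans (by ring))))
  · exact Or.inr (Or.inl (Nat.eq_of_mul_eq_mul_right (show 0 < q * (q + 1) by positivity)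
      (hN.trans (by ring))))

end EvenSizes

section FromRange

variable {F : Type*} [Field F] [Fintype F]

omit [Finite G] in
/-- The statement's hypothesis gives the sizes, `q` odd. -/
theorem exists_oddSizes (hodd : ¬ 2 ∣ Fintype.card F) (h7 : 7 ≤ Fintype.card F)
    (h : Set.range (fun g : G => (Subgroup.centralizer ({g} : Set G)).index) = Set.range
      (fun g : (Matrix.ProjectiveSpecialLinearGroup (Fin 2) F) =>
        (Subgroup.centralizer ({g} : Set (Matrix.ProjectiveSpecialLinearGroup (Fin 2) F))).index)) :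
    ∃ d w : ℕ, OddSizes G (Fintype.card F) d w := by
  obtain ⟨h1, h3⟩ := Cfsg.Agent.S2508.result (F := F) hodd h7
  obtain ⟨p, hc⟩ := CharP.exists F
  obtain ⟨n, hp, hn⟩ := FiniteField.card F p
  set q := Fintype.card F with hqdef
  have build : ∀ d w : ℕ, Par q d w →
      Set.range (fun g : G => sz g) = {1, 2 * d * w, q * w, 2 * d * q, 2 * (q * w)} →
      OddSizes G q d w := fun d w hpar e => by
    have hm : ∀ n ∈ ({1, 2 * d * w, q * w, 2 * d * q, 2 * (q * w)} : Set ℕ), ∃ g : G, sz g = n :=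
      fun n hn => by rwa [← e] at hn
    refine ⟨hpar, ⟨p, n, hp, hn⟩, fun x hx => ?_, hm _ (by simp), hm _ (by simp), hm _ (by simp)⟩
    have hx' : sz x ∈ Set.range (fun g : G => sz g) := ⟨x, rfl⟩
    rw [e] at hx'
    simp only [Set.mem_insert_iff, Set.mem_singleton_iff] at hx'
    rcases hx' with e' | e' | e' | e' | e'
    · exact absurd (sz_eq_one_iff.1 e') hx
    all_goals tauto
  obtain ⟨a, ha⟩ : ∃ a, q = 4 * a + 1 ∨ q = 4 * a + 3 := ⟨q / 4, by omega⟩
  rcases ha with ha | ha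
  · refine ⟨2 * a, 2 * a + 1, build _ _ ⟨even_two_mul a, by omega, Or.inl ⟨by omega, rfl⟩⟩ ?_⟩
    refine (h.trans (h1 (by omega))).trans ?_
    rw [ha, show (4 * a + 1) ^ 2 - 1 = 2 * (2 * (2 * a) * (2 * a + 1)) by
      refine Nat.sub_eq_of_eq_add ?_; ring]
    rw [Nat.mul_div_cancel_left _ two_pos,
      show (4 * a + 1) * (4 * a + 1 + 1) = 2 * ((4 * a + 1) * (2 * a + 1)) by ring,
      Nat.mul_div_cancel_left _ two_pos, show 4 * a + 1 - 1 = 4 * a by omega,
      show (4 * a + 1) * (4 * a) = 2 * (2 * a) * (4 * a + 1) by ring]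
  · refine ⟨2 * a + 2, 2 * a + 1, build _ _
      ⟨⟨a + 1, by ring⟩, by omega, Or.inr ⟨by omega, by omega⟩⟩ ?_⟩
    refine (h.trans (h3 (by omega))).trans ?_
    rw [ha, show (4 * a + 3) ^ 2 - 1 = 2 * (2 * (2 * a + 2) * (2 * a + 1)) by
      refine Nat.sub_eq_of_eq_add ?_; ring]
    rw [Nat.mul_div_cancel_left _ two_pos, show 4 * a + 3 - 1 = 2 * (2 * a + 1) by omega,
      show (4 * a + 3) * (2 * (2 * a + 1)) = 2 * ((4 * a + 3) * (2 * a + 1)) by ring,
      Nat.mul_div_cancel_left _ two_pos,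
      show (4 * a + 3) * (4 * a + 3 + 1) = 2 * (2 * a + 2) * (4 * a + 3) by ring]

omit [Finite G] in
/-- The statement's hypothesis gives the sizes, `q` even. -/
theorem exists_evenSizes (h2 : 2 ∣ Fintype.card F) (h4 : 4 ≤ Fintype.card F)
    (h : Set.range (fun g : G => (Subgroup.centralizer ({g} : Set G)).index) = Set.range
      (fun g : (Matrix.ProjectiveSpecialLinearGroup (Fin 2) F) =>
        (Subgroup.centralizer ({g} : Set (Matrix.ProjectiveSpecialLinearGroup (Fin 2) F))).index)) :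
    EvenSizes G (Fintype.card F) := by
  obtain ⟨p, hc⟩ := CharP.exists F
  obtain ⟨n, hp, hn⟩ := FiniteField.card F p
  set q := Fintype.card F with hqdef
  obtain rfl : p = 2 := ((Nat.prime_dvd_prime_iff_eq Nat.prime_two hp).1
    (Nat.prime_two.dvd_of_dvd_pow (hn ▸ h2))).symm
  have e : Set.range (fun g : G => sz g) =
      {1, q * (q - 1), (q - 1) * (q + 1), q * (q + 1)} := by
    refine (h.trans (Cfsg.Agent.S2507.result (F := F) h2 h4)).trans ?_
    rw [show q ^ 2 - 1 = (q - 1) * (q + 1) by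
      obtain ⟨m, hm⟩ : ∃ m, q = m + 1 := ⟨q - 1, by omega⟩
      rw [hm, Nat.add_sub_cancel]
      refine Nat.sub_eq_of_eq_add ?_; ring]
  have hm : ∀ n ∈ ({1, q * (q - 1), (q - 1) * (q + 1), q * (q + 1)} : Set ℕ), ∃ g : G, sz g = n :=
    fun n hn => by rwa [← e] at hn
  refine ⟨⟨n, hn⟩, h4, fun x hx => ?_, hm _ (by simp), hm _ (by simp), hm _ (by simp)⟩
  have hx' : sz x ∈ Set.range (fun g : G => sz g) := ⟨x, rfl⟩
  rw [e] at hx'
  simp only [Set.mem_insert_iff, Set.mem_singleton_iff] at hx'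
  rcases hx' with e' | e' | e' | e'
  · exact absurd (sz_eq_one_iff.1 e') hx
  all_goals tauto

end FromRange

end CfsgLib.Recognition.PSL2Sizes
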