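import Cfsg.Agent.Lib.Recognition.PSL2Sizes.Sizes
import Cfsg.Agent.Lib.Recognition.PSL2Sizes.PSLSylow
import Cfsg.Agent.Lib.Classical.Dickson.MinimalSimple
import Cfsg.Agent.Lib.SmallGroups.AbelianSylow

/-!
Groups with the class sizes of `PSL(2, q)`: the derived subgroup splits off the centre.
-/

set_option autoImplicit false

namespace CfsgLib.Recognition.PSL2Sizes

open Subgroup CfsgLib.InvolChar.BSW

variable {G : Type*} [Group G] [Finite G]

/-- The derived subgroup meets the centre trivially if this holds in a Sylow subgroup for each prime. -/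
theorem commutator_inf_center
    (hR : ∀ r : ℕ, r.Prime → ∃ R : Sylow r G,
      ∀ x ∈ ⁅(R : Subgroup G), (R : Subgroup G)⁆, x ∈ center G → x = 1) :
    commutator G ⊓ center G = ⊥ := by
  rw [Subgroup.eq_bot_iff_forall]
  rintro z ⟨hz1, hz2⟩
  by_contra hne
  obtain ⟨r, hr, hrd⟩ := Nat.exists_prime_and_dvd (fun e => hne (orderOf_eq_one_iff.1 e))
  haveI := Fact.mk hr
  set y := z ^ (orderOf z / r) with hy
  have hy1 : y ∈ commutator G := pow_mem hz1 _
  have hy2 : y ∈ center G := pow_mem hz2 _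
  have hyo : orderOf y = r := orderOf_pow_orderOf_div (orderOf_pos z).ne' hrd
  have hyc : ∀ g : G, g * y = y * g := mem_center_iff.1 hy2
  obtain ⟨R, hR'⟩ := hR r hr
  haveI : (zpowers y).Normal := ⟨fun n hn g => by
    rwa [mem_center_iff.1 ((zpowers_le.2 hy2) hn) g, mul_inv_cancel_right]⟩
  have hyR : y ∈ (R : Subgroup G) := by
    have h1 : IsPGroup r (zpowers y) := IsPGroup.of_card (n := 1) (by rw [Nat.card_zpowers, hyo, pow_one])
    exact (R.3 (R.2.to_sup_of_normal_right h1) le_sup_left).le (mem_sup_right (mem_zpowers y))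
  have hT : (Abelianization.of (G := ↥(R : Subgroup G))).transfer y = 1 :=
    Abelianization.commutator_subset_ker _ hy1
  rw [MonoidHom.transfer_eq_pow _ y (fun k g _ => by
    rw [mul_assoc, ← mem_center_iff.1 (pow_mem hy2 k) g, inv_mul_cancel_left])] at hT
  have h1 := mem_map_of_mem (R : Subgroup G).subtype ((QuotientGroup.eq_one_iff _).1 hT)
  change _ ∈ (commutator ↥(R : Subgroup G)).map _ at h1
  rw [map_subtype_commutator] at h1
  have h2 : y ^ (R : Subgroup G).index = 1 := hR' _ h1 (pow_mem hy2 _)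
  refine R.not_dvd_index ?_
  have h3 := orderOf_dvd_of_pow_eq_one h2
  rwa [hyo] at h3

omit [Finite G] in
theorem bot_of_comm {R : Subgroup G} (h : ∀ a ∈ R, ∀ b ∈ R, a * b = b * a) :
    ∀ x ∈ ⁅R, R⁆, x ∈ center G → x = 1 := by
  intro x hx _
  have : ⁅R, R⁆ ≤ ⊥ := commutator_le.2 fun a ha b hb => by
    rw [mem_bot, commutatorElement_def, h a ha b hb]; group
  exact mem_bot.1 (this hx)

omit [Finite G] in
/-- A subgroup with commutative image whose lifts have full centralisers is commutative. -/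
theorem comm_of_quot {R : Subgroup G} (hk : ∀ u ∈ R, u ∉ center G → kz u = 1)
    (hbar : ∀ a ∈ R, ∀ b ∈ R, (a : G ⧸ center G) * b = b * a) :
    ∀ a ∈ R, ∀ b ∈ R, a * b = b * a := fun a ha b hb => by
  by_cases hb' : b ∈ center G
  · exact mem_center_iff.1 hb' a
  · exact commute_of_kz_eq_one (hk b hb hb') (hbar a ha b hb)

omit [Finite G] in
/-- Commutators in a Sylow `2`-subgroup over a dihedral configuration. -/
theorem commutator_inf_of_hyp {t : G ⧸ center G} {K : Subgroup (G ⧸ center G)} {s : G ⧸ center G}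
    (hyp : Hyp t K s) (R : Subgroup G) (hRt : ∀ a ∈ R, (a : G ⧸ center G) ∈ cen t)
    (hA : ∀ a ∈ R, ∀ b ∈ R, (a : G ⧸ center G) ∈ K → (b : G ⧸ center G) ∈ K → a * b = b * a)
    (ht : ∀ a b : G, (a : G ⧸ center G) = t → (b : G ⧸ center G) ∈ cen t → b * a = a * b) :
    ∀ x ∈ ⁅R, R⁆, x ∈ center G → x = 1 := by
  by_cases hall : ∀ a ∈ R, (a : G ⧸ center G) ∈ K
  · exact bot_of_comm fun a ha b hb => hA a ha b hb (hall a ha) (hall b hb)
  push Not at hall
  obtain ⟨σ, hσR, hσK⟩ := hall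
  have hσs : (σ : G ⧸ center G) * s ∈ K := (hyp.cases (hRt σ hσR)).resolve_left hσK
  -- `K` is normalised by the image of `σ`
  have hsinv : s⁻¹ = s := hyp.invol_s.inv_eq
  have hstable : ∀ a ∈ R, (a : G ⧸ center G) ∈ K →
      σ * a * σ⁻¹ ∈ R ∧ ((σ * a * σ⁻¹ : G) : G ⧸ center G) ∈ K := by
    intro a ha haK
    refine ⟨mul_mem (mul_mem hσR ha) (inv_mem hσR), ?_⟩
    have e : ((σ * a * σ⁻¹ : G) : G ⧸ center G) =
        ((σ : G ⧸ center G) * s) * (s * a * s⁻¹) * ((σ : G ⧸ center G) * s)⁻¹ := by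
      rw [QuotientGroup.mk_mul, QuotientGroup.mk_mul, QuotientGroup.mk_inv, hsinv]
      have hs2 := hyp.invol_s.2
      calc (σ : G ⧸ center G) * a * (σ : G ⧸ center G)⁻¹
          = σ * (s * s) * a * (s * s) * (s * s)⁻¹ * (σ : G ⧸ center G)⁻¹ := by rw [hs2]; group
        _ = _ := by group
    rw [e, hyp.inverts _ haK]
    exact mul_mem (mul_mem hσs (inv_mem haK)) (inv_mem hσs)
  let ψ : G → G := fun a => σ * a * σ⁻¹ * a⁻¹
  let D : Subgroup G :=
    { carrier := {x | ∃ a ∈ R, (a : G ⧸ center G) ∈ K ∧ ψ a = x}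
      one_mem' := ⟨1, one_mem _, by rw [QuotientGroup.mk_one]; exact one_mem _, by simp [ψ]⟩
      mul_mem' := by
        rintro x y ⟨a, ha, haK, rfl⟩ ⟨b, hb, hbK, rfl⟩
        refine ⟨a * b, mul_mem ha hb, by rw [QuotientGroup.mk_mul]; exact mul_mem haK hbK, ?_⟩
        obtain ⟨hb1, hb2⟩ := hstable b hb hbK
        have e := hA _ (inv_mem ha) _ (mul_mem hb1 (inv_mem hb))
          (by rw [QuotientGroup.mk_inv]; exact inv_mem haK)
          (by rw [QuotientGroup.mk_mul, QuotientGroup.mk_inv]; exact mul_mem hb2 (inv_mem hbK))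
        show σ * (a * b) * σ⁻¹ * (a * b)⁻¹ = σ * a * σ⁻¹ * a⁻¹ * (σ * b * σ⁻¹ * b⁻¹)
        calc σ * (a * b) * σ⁻¹ * (a * b)⁻¹ = σ * a * σ⁻¹ * ((σ * b * σ⁻¹ * b⁻¹) * a⁻¹) := by group
          _ = σ * a * σ⁻¹ * (a⁻¹ * (σ * b * σ⁻¹ * b⁻¹)) := by rw [e]
          _ = _ := by group
      inv_mem' := by
        rintro x ⟨a, ha, haK, rfl⟩
        refine ⟨a⁻¹, inv_mem ha, by rw [QuotientGroup.mk_inv]; exact inv_mem haK, ?_⟩
        obtain ⟨ha1, ha2⟩ := hstable a ha haK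
        have e := hA _ ha _ (inv_mem ha1) haK (by rw [QuotientGroup.mk_inv]; exact inv_mem ha2)
        show σ * a⁻¹ * σ⁻¹ * a⁻¹⁻¹ = (σ * a * σ⁻¹ * a⁻¹)⁻¹
        calc σ * a⁻¹ * σ⁻¹ * a⁻¹⁻¹ = (σ * a * σ⁻¹)⁻¹ * a := by group
          _ = a * (σ * a * σ⁻¹)⁻¹ := e.symm
          _ = _ := by group }
  have hsplit : ∀ x ∈ R, ∃ a ∈ R, (a : G ⧸ center G) ∈ K ∧ (x = a ∨ x = a * σ) := by
    intro x hx
    rcases hyp.cases (hRt x hx) with h | h
    · exact ⟨x, hx, h, Or.inl rfl⟩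
    · refine ⟨x * σ⁻¹, mul_mem hx (inv_mem hσR), ?_, Or.inr (inv_mul_cancel_right x σ).symm⟩
      rw [QuotientGroup.mk_mul, QuotientGroup.mk_inv,
        show (x : G ⧸ center G) * (σ : G ⧸ center G)⁻¹ = (x : G ⧸ center G) * s * ((σ : G ⧸ center G) * s)⁻¹
          by group]
      exact mul_mem h (inv_mem hσs)
  have hle : ⁅R, R⁆ ≤ D := by
    refine commutator_le.2 fun x hx y hy => ?_
    rw [commutatorElement_def]
    obtain ⟨a, ha, haK, hxa⟩ := hsplit x hx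
    obtain ⟨b, hb, hbK, hyb⟩ := hsplit y hy
    obtain ⟨ha1, ha2⟩ := hstable a ha haK
    obtain ⟨hb1, hb2⟩ := hstable b hb hbK
    have hD : ∀ c ∈ R, (c : G ⧸ center G) ∈ K → σ * c * σ⁻¹ * c⁻¹ ∈ D := fun c hc hcK =>
      ⟨c, hc, hcK, rfl⟩
    rcases hxa with e1 | e1 <;> rcases hyb with e2 | e2 <;> rw [e1, e2]
    · rw [hA _ ha _ hb haK hbK, show b * a * a⁻¹ * b⁻¹ = 1 by group]; exact one_mem _
    · have e := hA _ hb _ ha1 hbK ha2
      have e' := hA _ ha _ hb haK hbK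
      rw [show a * (b * σ) * a⁻¹ * (b * σ)⁻¹ = (σ * a * σ⁻¹ * a⁻¹)⁻¹ from ?_]
      · exact inv_mem (hD a ha haK)
      calc a * (b * σ) * a⁻¹ * (b * σ)⁻¹ = (a * b) * (σ * a * σ⁻¹)⁻¹ * b⁻¹ := by group
        _ = a * (b * (σ * a * σ⁻¹)⁻¹) * b⁻¹ := by group
        _ = a * ((σ * a * σ⁻¹)⁻¹ * b) * b⁻¹ := by rw [((show Commute b _ from e).inv_right).eq]
        _ = _ := by group
    · have e := hA _ ha _ hb1 haK hb2
      have e' := hA _ ha _ hb haK hbK
      rw [show a * σ * b * (a * σ)⁻¹ * b⁻¹ = σ * b * σ⁻¹ * b⁻¹ from ?_]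
      · exact hD b hb hbK
      calc a * σ * b * (a * σ)⁻¹ * b⁻¹ = (a * (σ * b * σ⁻¹)) * a⁻¹ * b⁻¹ := by group
        _ = (σ * b * σ⁻¹ * a) * a⁻¹ * b⁻¹ := by rw [e]
        _ = _ := by group
    · have hc : b * a⁻¹ ∈ R := mul_mem hb (inv_mem ha)
      have hcK : ((b * a⁻¹ : G) : G ⧸ center G) ∈ K := by
        rw [QuotientGroup.mk_mul, QuotientGroup.mk_inv]; exact mul_mem hbK (inv_mem haK)
      obtain ⟨hc1, hc2⟩ := hstable _ hc hcK
      have e := hA _ ha _ hc1 haK hc2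
      have e' := hA _ ha _ hb haK hbK
      rw [show a * σ * (b * σ) * (a * σ)⁻¹ * (b * σ)⁻¹ = σ * (b * a⁻¹) * σ⁻¹ * (b * a⁻¹)⁻¹ from ?_]
      · exact hD _ hc hcK
      calc a * σ * (b * σ) * (a * σ)⁻¹ * (b * σ)⁻¹ = (a * (σ * (b * a⁻¹) * σ⁻¹)) * b⁻¹ := by group
        _ = (σ * (b * a⁻¹) * σ⁻¹ * a) * b⁻¹ := by rw [e]
        _ = _ := by group
  intro x hx hxc
  obtain ⟨a, ha, haK, rfl⟩ := hle hx
  have hcomm : (σ : G ⧸ center G) * a = a * σ := by
    have h1 : ((σ * a * σ⁻¹ * a⁻¹ : G) : G ⧸ center G) = 1 := (QuotientGroup.eq_one_iff _).2 hxc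
    rw [QuotientGroup.mk_mul, QuotientGroup.mk_mul, QuotientGroup.mk_mul, QuotientGroup.mk_inv,
      QuotientGroup.mk_inv, mul_inv_eq_one, mul_inv_eq_iff_eq_mul] at h1
    exact h1
  have has : (a : G ⧸ center G) ∈ cen s := by
    have h2 : Commute (a : G ⧸ center G) ((σ : G ⧸ center G) * s) := hyp.comm _ haK _ hσs
    have h3 : Commute (a : G ⧸ center G) (σ : G ⧸ center G) := hcomm.symm
    have h4 := h3.inv_right.mul_right h2
    rw [inv_mul_cancel_left] at h4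
    exact mem_cen.2 h4.eq
  have hat : (a : G ⧸ center G) ∈ zpowers t := hyp.inf_eq ▸ (⟨haK, has⟩ : (a : G ⧸ center G) ∈ K ⊓ cen s)
  have haσ : σ * a = a * σ := by
    obtain ⟨i, hi⟩ := mem_zpowers_iff.1 hat
    have hti : t ^ i = 1 ∨ t ^ i = t := by
      rcases Int.even_or_odd i with ⟨j, rfl⟩ | ⟨j, rfl⟩
      · left; rw [← two_mul, zpow_mul, zpow_two, hyp.invol_t.2, one_zpow]
      · right; rw [zpow_add_one, zpow_mul, zpow_two, hyp.invol_t.2, one_zpow, one_mul]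
    rcases hti with e | e <;> rw [e] at hi
    · exact mem_center_iff.1 ((QuotientGroup.eq_one_iff a).1 hi.symm) σ
    · exact ht a σ hi.symm (hRt σ hσR)
  show σ * a * σ⁻¹ * a⁻¹ = 1
  rw [haσ]; group

namespace OddSizes

variable {q d w : ℕ} (h : OddSizes G q d w)
include h

theorem mz_cases {g : G} (hg : g ∉ center G) :
    (sz g = 2 * d * w ∧ mz g = q) ∨ (sz g = q * w ∧ mz g = 2 * d) ∨
      (sz g = 2 * (q * w) ∧ mz g = d) ∨ (sz g = 2 * d * q ∧ mz g = w) := by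
  obtain ⟨hq0, hw1, hd, -⟩ := h.arith
  have hN := mz_mul_sz g
  rw [h.index_eq] at hN
  rcases h.mem g hg with e | e | e | e <;> rw [e] at hN
  · exact Or.inl ⟨e, Nat.eq_of_mul_eq_mul_right (show 0 < 2 * d * w by positivity) (hN.trans (by ring))⟩
  · exact Or.inr (Or.inl ⟨e, Nat.eq_of_mul_eq_mul_right (show 0 < q * w by positivity) (hN.trans (by ring))⟩)
  · exact Or.inr (Or.inr (Or.inl ⟨e,
      Nat.eq_of_mul_eq_mul_right (show 0 < 2 * (q * w) by positivity) (hN.trans (by ring))⟩))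
  · exact Or.inr (Or.inr (Or.inr ⟨e,
      Nat.eq_of_mul_eq_mul_right (show 0 < 2 * d * q by positivity) (hN.trans (by ring))⟩))

theorem common_prime {g : G} (hg : g ∉ center G) {l : ℕ} (hl : l.Prime) (h1 : l ∣ mz g) (h2 : l ∣ sz g) :
    sz g = 2 * (q * w) ∧ l = 2 := by
  obtain ⟨hq0, hw1, hd, c1, c2, hq2, hw2, hqw, hqd⟩ := h.arith
  rcases h.mz_cases hg with ⟨e, e'⟩ | ⟨e, e'⟩ | ⟨e, e'⟩ | ⟨e, e'⟩ <;> rw [e] at h2 ⊢ <;> rw [e'] at h1
  · exact absurd (Nat.eq_one_of_dvd_coprimes c1 h1 h2) hl.ne_one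
  · exact absurd (Nat.eq_one_of_dvd_coprimes (hqd.symm.mul_right c2) h1 h2) hl.ne_one
  · refine ⟨rfl, ?_⟩
    rcases hl.dvd_mul.1 h2 with h3 | h3
    · exact (Nat.prime_dvd_prime_iff_eq hl Nat.prime_two).1 h3
    · exact absurd (Nat.eq_one_of_dvd_coprimes (hqd.symm.mul_right c2) (h1.mul_left 2) h3) hl.ne_one
  · exact absurd (Nat.eq_one_of_dvd_coprimes (c2.symm.mul_right hqw.symm) h1 h2) hl.ne_one

theorem kz_eq_one_of_sz_ne {g : G} (hg : g ∉ center G) (hne : sz g ≠ 2 * (q * w)) : kz g = 1 := by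
  by_contra hk
  obtain ⟨l, hl, hlk⟩ := Nat.exists_prime_and_dvd hk
  exact hne (h.common_prime hg hl (prime_dvd_of_dvd_kz (pow_mz_mem g) hl hlk) (hlk.trans (kz_dvd g))).1

theorem kz_eq_one_of_odd {g : G} (hg : g ∉ center G) {r j : ℕ} (hr : r.Prime) (hr2 : r ≠ 2)
    (ho : orderOf g = r ^ j) : kz g = 1 := by
  by_contra hk
  obtain ⟨l, hl, hlk⟩ := Nat.exists_prime_and_dvd hk
  have h1 := (h.common_prime hg hl (prime_dvd_of_dvd_kz (pow_mz_mem g) hl hlk) (hlk.trans (kz_dvd g))).2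
  have h2 : l ∣ r ^ j := prime_dvd_of_dvd_kz
    (by rw [← ho, pow_orderOf_eq_one]; exact one_mem _) hl hlk
  exact hr2 (((Nat.prime_dvd_prime_iff_eq hl hr).1 (hl.dvd_of_dvd_pow h2)).symm.trans h1)

theorem two_case : ∃ R : Sylow 2 G, ∀ x ∈ ⁅(R : Subgroup G), (R : Subgroup G)⁆, x ∈ center G → x = 1 := by
  haveI := Fintype.ofFinite (G ⧸ center G)
  haveI : Fact (Nat.Prime 2) := ⟨Nat.prime_two⟩
  obtain ⟨hq, hw, -, hq7, hqw', hqd, hq2d, hwd⟩ := h.par.odd_qw
  obtain ⟨hq0, hw1, hd, -⟩ := h.arith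
  have hc := h.oddCent
  obtain ⟨t, K, s, hyp, hKc, hKd⟩ := exists_hyp hc
  obtain ⟨hinv, hconj, -, hW⟩ := tight hc
  set H := (cen t).comap (QuotientGroup.mk' (center G)) with hH
  have hidx : H.index = q * w := by
    rw [hH, index_comap_of_surjective _ (QuotientGroup.mk'_surjective _)]
    have h1 := (cen t).card_mul_index
    rw [hc.card, hinv t hyp.invol_t] at h1
    refine Nat.eq_of_mul_eq_mul_left (show 0 < 2 * d by omega) ?_
    rw [h1]; ring
  obtain ⟨S⟩ : Nonempty (Sylow 2 ↥H) := inferInstance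
  have hS : ¬ 2 ∣ ((S : Subgroup ↥H).map H.subtype).index := by
    rw [index_map, ker_subtype, sup_bot_eq, range_subtype, hidx]
    refine Nat.prime_two.not_dvd_mul S.not_dvd_index ?_
    exact Nat.two_dvd_ne_zero.2 (Nat.odd_iff.1 (hq.mul hw))
  refine ⟨(S.2.map H.subtype).toSylow hS, ?_⟩
  have htc : ∀ a b : G, (a : G ⧸ center G) = t → (b : G ⧸ center G) ∈ cen t → b * a = a * b := by
    obtain ⟨b₀, hb₀⟩ := h.exB
    have hb0 : b₀ ∉ center G := not_center_of_sz hb₀ (by nlinarith)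
    have hcard : Nat.card (cen (b₀ : G ⧸ center G)) = 2 * d := by
      rw [show Nat.card (cen (b₀ : G ⧸ center G)) = mz b₀ * kz b₀ from card_cen_eq b₀,
        h.kz_eq_one_of_sz_ne hb0 (by rw [hb₀]; nlinarith), mul_one]
      rcases h.mz_cases hb0 with ⟨e, e'⟩ | ⟨e, e'⟩ | ⟨e, e'⟩ | ⟨e, e'⟩ <;> rw [hb₀] at e
      · exfalso
        have : 2 ∣ q * w := e ▸ Dvd.intro (d * w) (by ring)
        exact absurd this (Nat.two_dvd_ne_zero.2 (Nat.odd_iff.1 (hq.mul hw)))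
      · exact e'
      · nlinarith
      · exfalso
        have : 2 ∣ q * w := e ▸ Dvd.intro (d * q) (by ring)
        exact absurd this (Nat.two_dvd_ne_zero.2 (Nat.odd_iff.1 (hq.mul hw)))
    have hbi : IsInv (b₀ : G ⧸ center G) := by
      by_contra hni
      have := (hW _ ⟨mk_ne_one_iff.2 hb0, hni, Or.inl hcard⟩).2.1
      omega
    obtain ⟨g, hg⟩ := isConj_iff.1 (hconj _ _ hbi hyp.invol_t)
    obtain ⟨g, rfl⟩ := QuotientGroup.mk_surjective g
    have hct : ((g * b₀ * g⁻¹ : G) : G ⧸ center G) = t := by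
      rw [← hg, QuotientGroup.mk_mul, QuotientGroup.mk_mul, QuotientGroup.mk_inv]
    set c := g * b₀ * g⁻¹ with hcdef
    have hcc : c ∉ center G := mk_ne_one_iff.1 (hct ▸ hyp.invol_t.1)
    have hkc : kz c = 1 := h.kz_eq_one_of_sz_ne hcc (by rw [hcdef, sz_conj, hb₀]; nlinarith)
    intro a b ha hb
    have hz : c⁻¹ * a ∈ center G := QuotientGroup.eq.1 (hct.trans ha.symm)
    have h1 : b * c = c * b := commute_of_kz_eq_one hkc (by rw [hct]; exact mem_cen.1 hb)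
    have h2 := (Commute.mul_right (show Commute b c from h1)
        (show Commute b (c⁻¹ * a) from mem_center_iff.1 hz b)).eq
    rwa [mul_inv_cancel_left] at h2
  refine commutator_inf_of_hyp hyp _ (fun a ha => ?_) ?_ ?_
  · obtain ⟨a', -, rfl⟩ := ha
    exact a'.2
  · intro a _ b _ haK hbK
    by_cases ha1 : (a : G ⧸ center G) = 1
    · exact (mem_center_iff.1 ((QuotientGroup.eq_one_iff a).1 ha1) b).symm
    by_cases hat : (a : G ⧸ center G) = t
    · exact (htc a b hat (hyp.le_cen hbK)).symm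
    have hac : a ∉ center G := mk_ne_one_iff.1 ha1
    have hcard := hKd _ haK ha1 hat
    rw [show Nat.card (cen (a : G ⧸ center G)) = mz a * kz a from card_cen_eq a] at hcard
    have hk : kz a = 1 := by
      by_cases hs : sz a = 2 * (q * w)
      · rcases h.mz_cases hac with ⟨e, e'⟩ | ⟨e, e'⟩ | ⟨e, e'⟩ | ⟨e, e'⟩
        case inr.inr.inl =>
          rw [e'] at hcard
          exact (Nat.mul_eq_left (by omega)).1 hcard
        all_goals (exfalso; rw [hs] at e)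
        · have : d ∣ q * w := ⟨w, Nat.eq_of_mul_eq_mul_left two_pos (by rw [e]; ring)⟩
          exact absurd (h.par.even_d.two_dvd.trans this) (Nat.two_dvd_ne_zero.2 (Nat.odd_iff.1 (hq.mul hw)))
        · nlinarith
        · have : d ∣ q * w := ⟨q, Nat.eq_of_mul_eq_mul_left two_pos (by rw [e]; ring)⟩
          exact absurd (h.par.even_d.two_dvd.trans this) (Nat.two_dvd_ne_zero.2 (Nat.odd_iff.1 (hq.mul hw)))
      · exact h.kz_eq_one_of_sz_ne hac hs
    exact (commute_of_kz_eq_one hk (hyp.comm _ hbK _ haK)).symm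
  · exact htc

end OddSizes

end CfsgLib.Recognition.PSL2Sizes
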